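import Mathlib
import Cfsg.Agent.Lib.Block.Alg

/-!
The simple modules of a modular group algebra (Wedderburn components) and Brauer's theorem:
their number is the number of `p`-regular classes.
-/

set_option autoImplicit false

namespace H64.MR

open MonoidAlgebra Polynomial

section frob

variable {R k : Type*} [Ring R] [Field k]

theorem trace_deriv_pow (Λ : R[X] →+ k) (hΛ : ∀ a b, Λ (a * b) = Λ (b * a)) (F : R[X]) (n m : ℕ) :
    Λ (derivative (F ^ (n + 1)) * F ^ m) = (n + 1) * Λ (derivative F * F ^ (n + m)) := by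
  induction n generalizing m with
  | zero => simp
  | succ n ih =>
    rw [pow_succ F (n + 1), derivative_mul, add_mul, map_add, mul_assoc, ← pow_succ', ih,
      mul_assoc, hΛ (F ^ (n + 1)), mul_assoc, ← pow_add]
    rw [show n + (m + 1) = n + 1 + m by ring, show m + (n + 1) = n + 1 + m by ring]
    push_cast; ring

theorem trace_add_pow (p : ℕ) [hp : Fact p.Prime] [CharP k p] (ν : R →+ k)
    (hν : ∀ a b, ν (a * b) = ν (b * a)) (a b : R) :
    ν ((a + b) ^ p) = ν (a ^ p) + ν (b ^ p) := by
  set F : R[X] := C a + C b * X with hF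
  have hdeg : F.natDegree ≤ 1 := by
    rw [hF]
    refine (natDegree_add_le _ _).trans (max_le (by simp) ?_)
    exact (natDegree_C_mul_le _ _).trans natDegree_X_le
  have hdegp : (F ^ p).natDegree < p + 1 := by
    have := natDegree_pow_le_of_le p hdeg
    omega
  have h1 : (a + b) ^ p = ∑ i ∈ Finset.range (p + 1), (F ^ p).coeff i := by
    have e := map_pow (eval₂RingHom' (RingHom.id R) 1 fun a => Commute.one_right _) F p
    have e1 : eval₂RingHom' (RingHom.id R) 1 (fun a => Commute.one_right _) F = a + b := by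
      simp [eval₂RingHom', hF]
    rw [e1] at e
    rw [← e]
    change eval₂ _ _ _ = _
    rw [eval₂_eq_sum_range' _ hdegp]
    simp
  have h0 : (F ^ p).coeff 0 = a ^ p := by
    rw [← constantCoeff_apply, map_pow]; simp [hF]
  have hp' : (F ^ p).coeff p = b ^ p := by
    have := coeff_pow_of_natDegree_le (m := p) hdeg
    rw [mul_one] at this
    rw [this]; simp [hF, coeff_C]
  have hmid : ∀ i, i + 1 < p → ν ((F ^ p).coeff (i + 1)) = 0 := by
    intro i hi
    let Λ : R[X] →+ k := ν.comp (lcoeff R i).toAddMonoidHom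
    have hΛ : ∀ a b, Λ (a * b) = Λ (b * a) := by
      intro f g
      change ν ((f * g).coeff i) = ν ((g * f).coeff i)
      rw [Polynomial.coeff_mul, Polynomial.coeff_mul, map_sum, map_sum, ← Finset.Nat.sum_antidiagonal_swap]
      exact Finset.sum_congr rfl fun x _ => hν _ _
    have := trace_deriv_pow Λ hΛ F (p - 1) 0
    rw [Nat.sub_add_cancel hp.out.one_le, pow_zero, mul_one] at this
    have e : ((p - 1 : ℕ) : k) + 1 = 0 := by
      rw [← Nat.cast_succ, Nat.succ_eq_add_one, Nat.sub_add_cancel hp.out.one_le, CharP.cast_eq_zero]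
    rw [e, zero_mul] at this
    change ν ((derivative (F ^ p)).coeff i) = 0 at this
    rw [coeff_derivative, ← Nat.cast_succ, ← nsmul_eq_mul', map_nsmul, nsmul_eq_mul] at this
    refine (mul_eq_zero.1 this).resolve_left ?_
    rw [CharP.cast_eq_zero_iff k p]
    exact fun h => absurd (Nat.le_of_dvd (Nat.succ_pos _) h) (by omega)
  rw [h1, Finset.sum_range_succ, map_add, hp', map_sum]
  obtain ⟨q, hq⟩ : ∃ q, p = q + 1 := ⟨p - 1, (Nat.sub_add_cancel hp.out.one_le).symm⟩
  congr 1
  conv_lhs => rw [show Finset.range p = Finset.range (q + 1) by rw [hq]]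
  rw [Finset.sum_range_succ', h0, Finset.sum_eq_zero, zero_add]
  intro i hi
  exact hmid i (by rw [Finset.mem_range] at hi; omega)

theorem exists_trace_pow (p : ℕ) [hp : Fact p.Prime] [CharP k p] (ν : R →+ k)
    (hν : ∀ a b, ν (a * b) = ν (b * a)) (n : ℕ) :
    ∃ μ : R →+ k, (∀ a b, μ (a * b) = μ (b * a)) ∧ ∀ a, μ a = ν (a ^ p ^ n) := by
  induction n with
  | zero => exact ⟨ν, hν, fun a => by simp⟩
  | succ n ih =>
    obtain ⟨μ, h1, h2⟩ := ih
    refine ⟨AddMonoidHom.mk' (fun a => μ (a ^ p)) (trace_add_pow p μ h1), fun a b => ?_, fun a => ?_⟩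
    · obtain ⟨q, hq⟩ : ∃ q, p = q + 1 := ⟨p - 1, (Nat.sub_add_cancel hp.out.one_le).symm⟩
      change μ ((a * b) ^ p) = μ ((b * a) ^ p)
      rw [hq, pow_succ, ← mul_assoc, h1, ← mul_assoc, mul_pow_mul_comm' a b q]
    · change μ (a ^ p) = _
      rw [h2, ← pow_mul, pow_succ']
where
  mul_pow_mul_comm' (a b : R) (q : ℕ) : b * (a * b) ^ q * a = (b * a) ^ (q + 1) := by
    induction q with
    | zero => simp
    | succ q ih => rw [pow_succ, pow_succ (b * a) (q + 1), ← ih]; noncomm_ring

end frob

section reg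

variable (G : Type*) [Group G] [Finite G] (p : ℕ) [hp : Fact p.Prime]

/-- the exponent used for the `p`-regular part -/
noncomputable def rexp : ℕ := p ^ (Nat.card G).factorial

variable {G}

/-- the `p`-regular part -/
noncomputable def reg (g : G) : G := g ^ rexp G p

theorem coprime_orderOf_reg (g : G) : (orderOf (reg p g)).Coprime p := by
  rw [reg, orderOf_pow, Nat.Coprime, Nat.gcd_comm, ← Nat.Coprime, hp.out.coprime_iff_not_dvd]
  have h0 : orderOf g ≠ 0 := (orderOf_pos g).ne'
  have hd : (orderOf g).gcd (rexp G p) ∣ orderOf g := Nat.gcd_dvd_left _ _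
  have h1 : orderOf g / (orderOf g).gcd (rexp G p) ≠ 0 :=
    (Nat.div_pos (Nat.le_of_dvd (orderOf_pos g) hd) (Nat.gcd_pos_of_pos_left _ (orderOf_pos g))).ne'
  rw [hp.out.dvd_iff_one_le_factorization h1, Nat.factorization_div hd, Finsupp.tsub_apply,
    rexp, Nat.factorization_gcd h0 (pow_ne_zero _ hp.out.ne_zero), Finsupp.inf_apply,
    hp.out.factorization_pow, Finsupp.single_eq_same]
  have h2 : (orderOf g).factorization p ≤ (Nat.card G).factorial :=
    (Nat.factorization_lt p h0).le.trans (orderOf_le_card.trans (Nat.self_le_factorial _))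
  rw [inf_eq_left.2 h2]; omega

theorem reg_eq_self {g : G} (hg : (orderOf g).Coprime p) : reg p g = g := by
  have h1 : (orderOf g).totient ∣ (Nat.card G).factorial :=
    Nat.dvd_factorial (Nat.totient_pos.2 (orderOf_pos g)) ((Nat.totient_le _).trans orderOf_le_card)
  obtain ⟨c, hc⟩ := h1
  have h2 : rexp G p ≡ 1 [MOD orderOf g] := by
    rw [rexp, hc, pow_mul]
    simpa using (Nat.ModEq.pow_totient hg.symm).pow c
  rw [reg, pow_eq_pow_iff_modEq.2 h2, pow_one]

theorem reg_reg (g : G) : reg p (reg p g) = reg p g := reg_eq_self p (coprime_orderOf_reg p g)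

omit [Finite G] hp in
theorem reg_conj (g h : G) : reg p (h * g * h⁻¹) = h * reg p g * h⁻¹ := by
  rw [reg, conj_pow, reg]

theorem pow_rexp_pow (g : G) (n : ℕ) : g ^ p ^ ((Nat.card G).factorial * (n + 1)) = reg p g := by
  induction n with
  | zero => rw [zero_add, mul_one]; rfl
  | succ n ih => rw [mul_add, mul_one, pow_add, pow_mul, ih]; exact reg_reg p g

variable {k : Type*} [Field k] [CharP k p]

theorem isNilpotent_sub_reg (g : G) :
    IsNilpotent (single g (1 : k) - single (reg p g) 1) := by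
  haveI : CharP (MonoidAlgebra k G) p :=
    charP_of_injective_algebraMap (algebraMap k (MonoidAlgebra k G)).injective p
  refine ⟨rexp G p, ?_⟩
  rw [rexp, sub_pow_char_pow_of_commute, single_pow, single_pow, one_pow]
  · change single (reg p g) (1 : k) - single (reg p (reg p g)) 1 = 0
    rw [reg_reg, sub_self]
  · change _ * _ = _ * _
    rw [single_mul_single, single_mul_single, reg, (Commute.self_pow g _).eq]

/-- `p`-regular section sums vanish on nilpotent elements -/
theorem chiL_reg_eq_zero (c : ConjClasses G) [DecidableEq (ConjClasses G)] {x : MonoidAlgebra k G}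
    (hx : IsNilpotent x) :
    H33.chiL (fun g => if ConjClasses.mk (reg p g) = c then (1 : k) else 0) x = 0 := by
  haveI := Fintype.ofFinite G
  obtain ⟨n, hn⟩ := hx
  set N := (Nat.card G).factorial * (n + 1) with hN
  obtain ⟨μ, -, hμ⟩ := exists_trace_pow p
    (H33.chiL (fun g => if ConjClasses.mk g = c then (1 : k) else 0)).toAddMonoidHom
    (H33.chiL_mul_comm fun g h => by
      rw [show ConjClasses.mk (h * g * h⁻¹) = ConjClasses.mk g from
        ConjClasses.mk_eq_mk_iff_isConj.2 (isConj_iff.2 ⟨h, rfl⟩).symm]) N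
  have h1 : μ x = 0 := by
    have : n ≤ p ^ N := (Nat.lt_pow_self hp.out.one_lt).le.trans
      (Nat.pow_le_pow_right hp.out.pos (by
        rw [hN]; nlinarith [Nat.factorial_pos (Nat.card G)]))
    rw [hμ, pow_eq_zero_of_le this hn, map_zero]
  have h2 : μ x = (H33.chiL (fun g => if ConjClasses.mk (reg p g) = c then (1 : k) else 0) x) ^ p ^ N := by
    rw [H33.chiL_apply, sum_pow_char_pow]
    conv_lhs => rw [H33.eq_sum_single x]
    rw [map_sum]
    refine Finset.sum_congr rfl fun g _ => ?_
    rw [hμ, smul_single, smul_eq_mul, mul_one, single_pow, hN, pow_rexp_pow]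
    simp only [LinearMap.toAddMonoidHom_coe, H33.chiL_single]
    split_ifs
    · simp
    · simp [hp.out.ne_zero]
  rw [h1] at h2
  exact pow_eq_zero_iff (pow_ne_zero _ hp.out.ne_zero) |>.1 h2.symm

end reg

theorem trace_functional {k : Type*} [Field k] {d : Type*} [Fintype d] [DecidableEq d]
    (ν : Matrix d d k →ₗ[k] k) (hν : ∀ a b, ν (a * b) = ν (b * a)) {m : Matrix d d k}
    (hm : m.trace = 0) : ν m = 0 := by
  rcases isEmpty_or_nonempty d with h | ⟨⟨i0⟩⟩
  · rw [Subsingleton.elim m 0, map_zero]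
  have h1 : ∀ i j, ν (Matrix.single i j 1) = if i = j then ν (Matrix.single i0 i0 1) else 0 := by
    intro i j
    have := hν (Matrix.single i i0 1) (Matrix.single i0 j 1)
    rw [Matrix.single_mul_single_same, one_mul] at this
    rw [this]
    split_ifs with h
    · subst h; rw [Matrix.single_mul_single_same, one_mul]
    · rw [Matrix.single_mul_single_of_ne _ _ _ _ (Ne.symm h), map_zero]
  rw [Matrix.matrix_eq_sum_single m]
  simp only [map_sum]
  have h2 : ∀ i j, ν (Matrix.single i j (m i j)) = m i j * ν (Matrix.single i j 1) := by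
    intro i j
    rw [← smul_eq_mul, ← map_smul, Matrix.smul_single, smul_eq_mul, mul_one]
  have h3 : ∀ i j, ν (Matrix.single i j (m i j)) =
      if i = j then m i j * ν (Matrix.single i0 i0 1) else 0 := by
    intro i j
    rw [h2, h1 i j]; split_ifs <;> simp
  simp only [h3, Finset.sum_ite_eq, Finset.mem_univ, if_true]
  rw [← Finset.sum_mul]
  change m.trace * _ = 0
  rw [hm, zero_mul]

/-- The Wedderburn components of the group algebra modulo its radical. -/
structure Wedd (k G : Type*) [Field k] [Group G] where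
  n : ℕ
  d : Fin n → ℕ
  d_ne : ∀ j, d j ≠ 0
  π : MonoidAlgebra k G →ₐ[k] ∀ j, Matrix (Fin (d j)) (Fin (d j)) k
  surj : Function.Surjective π
  nil : ∀ a, π a = 0 → IsNilpotent a

theorem exists_wedd (k G : Type*) [Field k] [IsAlgClosed k] [Group G] [Finite G] :
    Nonempty (Wedd k G) := by
  set A := MonoidAlgebra k G
  haveI : IsArtinianRing A := IsArtinianRing.of_finite k A
  haveI : IsSemisimpleRing (A ⧸ Ring.jacobson A) := IsSemiprimaryRing.isSemisimpleRing
  obtain ⟨n, d, hd, ⟨e⟩⟩ :=
    IsSemisimpleRing.exists_algEquiv_pi_matrix_of_isAlgClosed k (A ⧸ Ring.jacobson A)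
  refine ⟨⟨n, d, fun j => (hd j).ne, e.toAlgHom.comp (Ideal.Quotient.mkₐ k _),
    e.surjective.comp (Ideal.Quotient.mkₐ_surjective k _), fun a ha => ?_⟩⟩
  obtain ⟨m, hm⟩ : IsNilpotent (Ring.jacobson A) := IsSemiprimaryRing.isNilpotent
  have h1 : a ∈ Ring.jacobson A := by
    rw [← Ideal.Quotient.eq_zero_iff_mem]
    exact e.injective (by simpa using ha)
  refine ⟨m, ?_⟩
  have := Ideal.pow_mem_pow h1 m
  rwa [hm, Ideal.zero_eq_bot, Ideal.mem_bot] at this

namespace Wedd

variable {k G : Type*} [Field k] [Group G] (W : Wedd k G)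

/-- The action of the group algebra on the `j`-th simple module. -/
noncomputable def alg (j : Fin W.n) : MonoidAlgebra k G →ₐ[k] Module.End k (Fin (W.d j) → k) :=
  (Matrix.toLinAlgEquiv' (R := k) (n := Fin (W.d j))).toAlgHom.comp
    ((Pi.evalAlgHom k (fun j => Matrix (Fin (W.d j)) (Fin (W.d j)) k) j).comp W.π)

theorem alg_apply (j : Fin W.n) (a : MonoidAlgebra k G) (v : Fin (W.d j) → k) :
    W.alg j a v = (W.π a j).mulVec v := by
  simp [alg]

/-- The `j`-th simple module. -/
noncomputable def rep (j : Fin W.n) : Representation k G (Fin (W.d j) → k) :=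
  (W.alg j : MonoidAlgebra k G →* _).comp (MonoidAlgebra.of k G)

theorem rep_apply (j : Fin W.n) (g : G) : W.rep j g = W.alg j (single g 1) := rfl

theorem asAlgebraHom_rep (j : Fin W.n) : (W.rep j).asAlgebraHom = W.alg j := by
  refine AlgHom.ext fun a => ?_
  induction a using MonoidAlgebra.induction_linear with
  | zero => simp
  | add a b ha hb => rw [map_add, map_add, ha, hb]
  | single g r =>
    rw [Representation.asAlgebraHom_single, rep_apply, ← map_smul, smul_single, smul_eq_mul, mul_one]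

instance (j : Fin W.n) : Nontrivial (Fin (W.d j) → k) := by
  haveI : Nonempty (Fin (W.d j)) := ⟨⟨0, Nat.pos_of_ne_zero (W.d_ne j)⟩⟩
  infer_instance

theorem exists_alg_apply (j : Fin W.n) {v : Fin (W.d j) → k} (hv : v ≠ 0) (z : Fin (W.d j) → k) :
    ∃ a, W.alg j a v = z := by
  obtain ⟨i, hi⟩ := Function.ne_iff.1 hv
  obtain ⟨a, ha⟩ := W.surj (Pi.single j (Matrix.of fun r c => if c = i then z r * (v i)⁻¹ else 0))
  refine ⟨a, ?_⟩
  rw [alg_apply, ha, Pi.single_eq_same]
  ext r
  simp only [Matrix.mulVec, dotProduct, Matrix.of_apply, ite_mul, zero_mul, Finset.sum_ite_eq',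
    Finset.mem_univ, if_true]
  have : v i ≠ 0 := hi
  field_simp

theorem exists_sep {j j' : Fin W.n} (h : j ≠ j') : ∃ a, W.alg j a = 1 ∧ W.alg j' a = 0 := by
  obtain ⟨a, ha⟩ := W.surj (Pi.single j 1)
  refine ⟨a, LinearMap.ext fun v => ?_, LinearMap.ext fun v => ?_⟩
  · rw [alg_apply, ha, Pi.single_eq_same]; simp
  · rw [alg_apply, ha, Pi.single_eq_of_ne h.symm]; simp

/-- every cyclic module has a simple quotient -/
theorem exists_vec {V : Type*} [AddCommGroup V] [Module k V] (ρ : Representation k G V) {y : V}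
    (hy : y ≠ 0) : ∃ j, ∃ v : Fin (W.d j) → k, v ≠ 0 ∧
      ∀ a, ρ.asAlgebraHom a y = 0 → W.alg j a v = 0 := by
  let L : Submodule (∀ j, Matrix (Fin (W.d j)) (Fin (W.d j)) k) (∀ j, Matrix (Fin (W.d j)) (Fin (W.d j)) k) :=
    { carrier := {m | ∃ a, ρ.asAlgebraHom a y = 0 ∧ W.π a = m}
      add_mem' := by
        rintro _ _ ⟨a, ha, rfl⟩ ⟨b, hb, rfl⟩
        exact ⟨a + b, by simp [ha, hb], map_add _ _ _⟩
      zero_mem' := ⟨0, by simp, map_zero _⟩
      smul_mem' := by
        rintro c _ ⟨a, ha, rfl⟩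
        obtain ⟨b, rfl⟩ := W.surj c
        exact ⟨b * a, by simp [ha], map_mul _ _ _⟩ }
  obtain ⟨L', hL⟩ := exists_isCompl L
  obtain ⟨e, he, f, hf, hef⟩ := Submodule.mem_sup.1 (hL.sup_eq_top ▸ Submodule.mem_top (x := 1))
  have hf0 : f ≠ 0 := by
    rintro rfl
    rw [add_zero] at hef
    obtain ⟨a, ha, rfl⟩ := he
    have h1 : IsNilpotent (1 - a) := W.nil _ (by rw [map_sub, map_one, hef, sub_self])
    have h2 : IsUnit a := by simpa using h1.isUnit_one_sub
    obtain ⟨b, hb⟩ := h2.exists_left_inv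
    apply hy
    have : ρ.asAlgebraHom (b * a) y = 0 := by simp [ha]
    simpa [hb] using this
  obtain ⟨j, hj⟩ := Function.ne_iff.1 hf0
  obtain ⟨r, c, hrc⟩ : ∃ r c, f j r c ≠ 0 := by
    by_contra hn
    push Not at hn
    exact hj (by ext r c; simpa using hn r c)
  refine ⟨j, fun i => f j i c, fun h => hrc (congrFun h r), fun a ha => ?_⟩
  have h1 : W.π a * f = 0 := by
    have m1 : W.π a * f ∈ L' := L'.smul_mem _ hf
    have m2 : W.π a * f ∈ L := by
      have : W.π a * f = W.π a - W.π a * e := by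
        rw [eq_sub_iff_add_eq, ← mul_add, add_comm, hef, mul_one]
      rw [this]
      exact L.sub_mem ⟨a, ha, rfl⟩ (L.smul_mem _ he)
    exact (Submodule.disjoint_def.1 hL.disjoint) _ m2 m1
  rw [alg_apply]
  ext i
  exact congrFun (congrFun (congrFun h1 j) i) c

/-- a non-zero central idempotent acts as the identity on some simple module -/
theorem exists_alg_eq_one {e : MonoidAlgebra k G} (he : IsIdempotentElem e) (h0 : e ≠ 0)
    (hc : ∀ a, a * e = e * a) : ∃ j, W.alg j e = 1 := by
  have h1 : W.π e ≠ 0 := fun h => h0 (he.eq_zero_of_isNilpotent (W.nil e h))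
  obtain ⟨j, hj⟩ := Function.ne_iff.1 h1
  refine ⟨j, ?_⟩
  obtain ⟨v, hv⟩ : ∃ v, W.alg j e v ≠ 0 := by
    by_contra hn
    push Not at hn
    apply hj
    ext r c
    have := congrFun (hn (Pi.single c 1)) r
    rw [alg_apply] at this
    simpa using this
  refine LinearMap.ext fun z => ?_
  obtain ⟨a, rfl⟩ := W.exists_alg_apply j hv z
  rw [← Module.End.mul_apply, ← Module.End.mul_apply, ← map_mul, ← map_mul, ← hc, mul_assoc, he.eq,
    map_mul]
  rfl

/-- **Brauer**: the number of simple modules is the number of `p`-regular classes. -/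
theorem card_regular [Finite G] (p : ℕ) [hp : Fact p.Prime] [CharP k p] :
    Nat.card {c : ConjClasses G // ∃ g : G, ConjClasses.mk g = c ∧ (orderOf g).Coprime p} = W.n := by
  classical
  haveI := Fintype.ofFinite G
  set C := {c : ConjClasses G // ∃ g : G, ConjClasses.mk g = c ∧ (orderOf g).Coprime p}
  haveI : Fintype C := Fintype.ofFinite C
  choose rp hrp hrp' using fun c : C => c.2
  let τ : MonoidAlgebra k G →ₗ[k] (Fin W.n → k) :=
    LinearMap.pi fun j => (Matrix.traceLinearMap _ k k).comp ((LinearMap.proj j).comp W.π.toLinearMap)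
  have τ_apply : ∀ a j, τ a j = (W.π a j).trace := fun _ _ => rfl
  let σ : (C → k) →ₗ[k] MonoidAlgebra k G :=
    ∑ c : C, (LinearMap.proj c).smulRight (single (rp c) 1)
  have σ_apply : ∀ f, σ f = ∑ c, f c • single (rp c) 1 := fun f => by
    simp [σ, LinearMap.sum_apply]
  have τ_conj : ∀ g h : G, ConjClasses.mk g = ConjClasses.mk h → τ (single g 1) = τ (single h 1) := by
    intro g h hgh
    obtain ⟨x, rfl⟩ := isConj_iff.1 (ConjClasses.mk_eq_mk_iff_isConj.1 hgh)
    ext j
    have e1 : single (x * g * x⁻¹) (1 : k) = single x 1 * single (g * x⁻¹) 1 := by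
      rw [single_mul_single, one_mul, mul_assoc]
    have e2 : single g (1 : k) = single (g * x⁻¹) 1 * single x 1 := by
      rw [single_mul_single, one_mul]; simp
    rw [τ_apply, τ_apply, e1, e2, map_mul, map_mul, Pi.mul_apply, Pi.mul_apply, Matrix.trace_mul_comm]
  have τ_reg : ∀ g : G, τ (single g 1) = τ (single (reg p g) 1) := by
    intro g
    rw [← sub_eq_zero, ← map_sub]
    ext j
    rw [τ_apply]
    exact (Matrix.isNilpotent_trace_of_isNilpotent (((isNilpotent_sub_reg p g).map W.π).map
      (Pi.evalRingHom (fun j => Matrix (Fin (W.d j)) (Fin (W.d j)) k) j))).eq_zero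
  have hsurj : Function.Surjective (τ.comp σ) := by
    rw [← LinearMap.range_eq_top, eq_top_iff]
    have h1 : ∀ a, τ a ∈ LinearMap.range (τ.comp σ) := by
      intro a
      rw [H33.eq_sum_single a, map_sum]
      refine Submodule.sum_mem _ fun g _ => ?_
      rw [map_smul]
      refine Submodule.smul_mem _ _ ?_
      let c : C := ⟨ConjClasses.mk (reg p g), reg p g, rfl, coprime_orderOf_reg p g⟩
      refine ⟨Pi.single c 1, ?_⟩
      rw [LinearMap.comp_apply, σ_apply, Finset.sum_eq_single c, Pi.single_eq_same, one_smul, τ_reg g]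
      · exact τ_conj _ _ (hrp c)
      · intro b _ hb; rw [Pi.single_eq_of_ne hb, zero_smul]
      · simp
    intro t _
    obtain ⟨a, ha⟩ := W.surj fun j => Matrix.single ⟨0, Nat.pos_of_ne_zero (W.d_ne j)⟩
      ⟨0, Nat.pos_of_ne_zero (W.d_ne j)⟩ (t j)
    have : τ a = t := by ext j; rw [τ_apply, ha]; simp
    exact this ▸ h1 a
  have hinj : Function.Injective (τ.comp σ) := by
    rw [injective_iff_map_eq_zero]
    intro f hf
    ext c
    let μ := H33.chiL (fun g => if ConjClasses.mk (reg p g) = c.1 then (1 : k) else 0)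
    have hμ : ∀ a b, μ (a * b) = μ (b * a) := H33.chiL_mul_comm fun g h => by
      rw [reg_conj, show ConjClasses.mk (h * reg p g * h⁻¹) = ConjClasses.mk (reg p g) from
        ConjClasses.mk_eq_mk_iff_isConj.2 (isConj_iff.2 ⟨h, rfl⟩).symm]
    obtain ⟨s, hs⟩ := W.π.toLinearMap.exists_rightInverse_of_surjective
      (LinearMap.range_eq_top.2 W.surj)
    have hs' : ∀ m, W.π (s m) = m := fun m => LinearMap.congr_fun hs m
    have hker : ∀ a b, W.π a = W.π b → μ a = μ b := fun a b h => by
      rw [← sub_eq_zero, ← map_sub]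
      exact chiL_reg_eq_zero p c.1 (W.nil _ (by rw [map_sub, h, sub_self]))
    have h1 : μ (σ f) = 0 := by
      rw [hker (σ f) (s (W.π (σ f))) (hs' _).symm, ← Finset.univ_sum_single (W.π (σ f)), map_sum,
        map_sum]
      refine Finset.sum_eq_zero fun j _ => ?_
      refine trace_functional ((μ.comp s).comp
        (LinearMap.single k (fun j => Matrix (Fin (W.d j)) (Fin (W.d j)) k) j)) (fun a b => ?_)
        (m := W.π (σ f) j) (congrFun hf j)
      simp only [LinearMap.comp_apply, LinearMap.single_apply]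
      rw [hker (s (Pi.single j (a * b))) (s (Pi.single j a) * s (Pi.single j b)),
        hker (s (Pi.single j (b * a))) (s (Pi.single j b) * s (Pi.single j a)), hμ]
      · rw [map_mul, hs', hs', hs', Pi.single_mul]
      · rw [map_mul, hs', hs', hs', Pi.single_mul]
    rw [σ_apply, map_sum, Finset.sum_eq_single c] at h1
    · simpa [μ, reg_eq_self p (hrp' c), hrp] using h1
    · intro b _ hb
      have : b.1 ≠ c.1 := fun h => hb (Subtype.ext h)
      simp [μ, reg_eq_self p (hrp' b), hrp, this]
    · simp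
  have := (LinearEquiv.ofBijective _ ⟨hinj, hsurj⟩).finrank_eq
  simpa [Nat.card_eq_fintype_card] using this

end Wedd

end H64.MR
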