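import Mathlib
import Cfsg.Agent.Lib.ModRep.Sg
import Cfsg.Agent.Lib.Chev.Torus

/-!
Hecke operators on the `U`-fixed vectors of a representation of a finite group with root elements.
-/

set_option autoImplicit false
set_option linter.unusedSectionVars false

namespace H64.MR

open H38

variable {ι l : Type} [Fintype l] [DecidableEq l] [Finite ι] {R : RS ι l} {K : Type*} [Field K]
  [Fintype K] {G : Type*} [Group G] [Fintype G] (E : Elts R K G)
  {k V : Type*} [Field k] [AddCommGroup V] [Module k V] (ρ : Representation k G V)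

/-- `U`-fixed vectors -/
def Fix (v : V) : Prop := ∀ u ∈ E.U, ρ u v = v

/-- the simple monomial elements -/
abbrev ns (i : l) : G := E.n (R.sim i) 1

/-- The Hecke operator of `n` representing `w`. -/
noncomputable def T (n : G) (w : Equiv.Perm ι) : Module.End k V :=
  Sg ρ (E.XS (R.Inv w⁻¹)) * ρ n

/-- The simple Hecke operators. -/
noncomputable def Ts (i : l) : Module.End k V := Sg ρ (E.X (R.sim i)) * ρ (ns E i)

variable {E}

theorem rep_ns (i : l) : E.Rep (ns E i) (R.s i) := E.rep_n_sim i one_ne_zero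

theorem Fix.smul {v : V} (hv : Fix E ρ v) (c : k) : Fix E ρ (c • v) := fun u hu => by
  rw [map_smul, hv u hu]

theorem Fix.H {v : V} (hv : Fix E ρ v) {h : G} (hh : h ∈ E.H) : Fix E ρ (ρ h v) := fun u hu => by
  rw [← rmul, show u * h = h * (h⁻¹ * u * h) by group, rmul, hv _ (E.H_inv_conj_mem_XS hh hu)]

theorem Fix.sum {α : Type*} (s : Finset α) {f : α → V} (hf : ∀ a ∈ s, Fix E ρ (f a)) :
    Fix E ρ (∑ a ∈ s, f a) := fun u hu => by
  rw [map_sum]; exact Finset.sum_congr rfl fun a ha => hf a ha u hu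

theorem T_one (n : G) : T E ρ n 1 = ρ n := by
  rw [T, inv_one, R.Inv_one, E.XS_empty, Sg_bot, one_mul]

theorem T_mul (n : G) (w : Equiv.Perm ι) (g : G) : T E ρ (n * g) w = T E ρ n w * ρ g := by
  rw [T, T, map_mul, mul_assoc]

theorem H_mul_Sg {h : G} (hh : h ∈ E.H) (S : Set ι) :
    ρ h * Sg ρ (E.XS S) = Sg ρ (E.XS S) * ρ h :=
  mul_Sg_of_conj ρ fun g => ⟨E.H_conj_mem_XS hh, fun hg => by
    simpa [mul_assoc] using E.H_inv_conj_mem_XS hh hg⟩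

theorem H_mul_T {h : G} (hh : h ∈ E.H) (n : G) (w : Equiv.Perm ι) :
    ρ h * T E ρ n w = T E ρ (h * n) w := by
  rw [T, T, ← mul_assoc, H_mul_Sg ρ hh, map_mul, mul_assoc]

theorem H_T_apply {h : G} (hh : h ∈ E.H) (n : G) (w : Equiv.Perm ι) (v : V) :
    ρ h (T E ρ n w v) = T E ρ n w (ρ (n⁻¹ * h * n) v) := by
  rw [← Module.End.mul_apply, H_mul_T ρ hh, ← Module.End.mul_apply, ← T_mul]
  congr 2; group

theorem Inv_s (i : l) : R.Inv (R.s i) = {R.sim i} := by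
  have := R.Inv_mul_s R.W.one_mem (i := i) (R.pos_sim i)
  rwa [one_mul, R.Inv_one, Set.image_empty, insert_empty_eq] at this

theorem Ts_eq_T (i : l) : Ts E ρ i = T E ρ (ns E i) (R.s i) := by
  rw [T, R.s_inv, Inv_s, E.XS_singleton, Ts]

theorem T_w0 (n : G) : T E ρ n R.w0 = Sg ρ E.U * ρ n := by
  rw [T, inv_eq_of_mul_eq_one_right R.w0_mul_self]
  congr 3
  ext r
  simp [RS.mem_Inv, R.pos_w0_iff]

variable (hF : E.Faith)
include hF

theorem Fix.T {v : V} (hv : Fix E ρ v) {n : G} {w : Equiv.Perm ι} (hn : E.Rep n w) :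
    Fix E ρ (T E ρ n w v) := by
  intro u hu
  have hw := R.W.inv_mem hn.mem_W
  have hc : R.Closed {r | R.Pos r ∧ R.Pos (w⁻¹ r)} :=
    R.closed_pos.inter (R.closed_pos.preimage hw)
  refine fix_Sg ρ (B := E.XS {r | R.Pos r ∧ R.Pos (w⁻¹ r)}) (C := E.U)
    (E.XS_mono fun _ h => h.1) (fun g h1 h2 => ?_) (fun c hc => ?_) (fun b hb => ?_) hu
  · have := hF.inf_XS (R.closed_Inv hw) hc (fun _ h => h.1) (fun _ h => h.1)
    have e : R.Inv w⁻¹ ∩ {r | R.Pos r ∧ R.Pos (w⁻¹ r)} = ∅ := by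
      ext r; simp only [Set.mem_inter_iff, RS.mem_Inv, Set.mem_setOf_eq]; tauto
    rw [e, E.XS_empty] at this
    exact Subgroup.mem_bot.1 (this ▸ ⟨h1, h2⟩)
  · obtain ⟨a, ha, b, hb, e⟩ := E.exists_mul R.closed_pos (fun _ h => h)
      (S1 := {r | ¬ R.Pos (w⁻¹ r)}) (S2 := {r | R.Pos (w⁻¹ r)}) (fun r _ => (em _).symm) hc
    exact ⟨a, ha, b, hb, e⟩
  · rw [← rmul, show b * n = n * (n⁻¹ * b * n) by group, rmul,
      hv _ (hn.inv_conj_mem_XS (T := {r | R.Pos r}) (fun _ h => h.2) hb)]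

theorem Fix.Ts {v : V} (hv : Fix E ρ v) (i : l) : Fix E ρ (Ts E ρ i v) := by
  rw [Ts_eq_T]; exact hv.T ρ hF (rep_ns i)

theorem T_step {n : G} {w : Equiv.Perm ι} (hn : E.Rep n w) {i : l} (hp : R.Pos (w⁻¹ (R.sim i))) :
    T E ρ (ns E i * n) (R.s i * w) = Ts E ρ i * T E ρ n w := by
  have hw := R.W.inv_mem hn.mem_W
  have hw' := R.W.mul_mem hw (R.s_mem_W i)
  have hI := R.Inv_mul_s hw hp
  have hsub : ∀ r ∈ R.s i '' R.Inv w⁻¹, R.Pos r := fun r hr =>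
    (show r ∈ R.Inv (w⁻¹ * R.s i) from hI ▸ Set.mem_insert_of_mem _ hr).1
  have hcl : R.Closed (R.s i '' R.Inv w⁻¹) := by
    have : R.s i '' R.Inv w⁻¹ = R.s i ⁻¹' R.Inv w⁻¹ := by
      rw [Equiv.image_eq_preimage_symm, ← Equiv.Perm.inv_def, R.s_inv]
    rw [this]; exact (R.closed_Inv hw).preimage (R.s_mem_W i)
  have h1 : ρ (ns E i) * Sg ρ (E.XS (R.Inv w⁻¹)) =
      Sg ρ (E.XS (R.s i '' R.Inv w⁻¹)) * ρ (ns E i) :=
    mul_Sg_of_conj ρ fun g => ⟨(rep_ns i).conj_mem_XS fun s hs => Set.mem_image_of_mem _ hs, fun hg => by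
      have := (rep_ns i).inv_conj_mem_XS (T := R.Inv w⁻¹) (by
        rintro _ ⟨s, hs, rfl⟩; simpa using hs) hg
      simpa [mul_assoc] using this⟩
  have h2 : Sg ρ (E.XS (R.Inv (w⁻¹ * R.s i))) =
      Sg ρ (E.X (R.sim i)) * Sg ρ (E.XS (R.s i '' R.Inv w⁻¹)) := by
    refine Sg_mul_Sg ρ ?_ (E.XS_mono (hI ▸ Set.subset_insert _ _)) ?_ fun c hc => ?_
    · rw [← E.XS_singleton]; exact E.XS_mono (by rw [hI]; simp)
    · rintro _ ⟨t, rfl⟩ h
      by_cases ht : t = 0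
      · rw [ht, E.x_zero]
      · exact absurd (hF.mem_of_x_mem_XS hcl hsub ht h) (R.sim_not_mem_image_Inv _ i)
    · obtain ⟨a, ha, b, hb, e⟩ := E.exists_mul (R.closed_Inv hw') (fun _ h => h.1)
        (S1 := {R.sim i}) (S2 := R.s i '' R.Inv w⁻¹) (by rw [hI]; rfl) hc
      exact ⟨a, E.XS_singleton _ ▸ E.XS_mono Set.inter_subset_right ha, b,
        E.XS_mono Set.inter_subset_right hb, e⟩
  rw [T, T, Ts, mul_inv_rev, R.s_inv, h2, map_mul, mul_assoc (Sg ρ _) (ρ _), ← mul_assoc (ρ _), h1]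
  simp only [mul_assoc]

theorem T_step' {n : G} {w : Equiv.Perm ι} (hn : E.Rep n w) {i : l}
    (hp : ¬ R.Pos (w⁻¹ (R.sim i))) :
    T E ρ n w = Ts E ρ i * T E ρ ((ns E i)⁻¹ * n) (R.s i * w) := by
  have h1 : E.Rep ((ns E i)⁻¹ * n) (R.s i * w) := by
    have := (rep_ns (E := E) i).inv.mul hn
    rwa [R.s_inv] at this
  rw [← T_step ρ hF h1, mul_inv_cancel_left, ← mul_assoc, R.s_mul_self, one_mul]
  rw [mul_inv_rev, R.s_inv]
  exact R.pos_mul_s_of_not_pos (R.W.inv_mem hn.mem_W) hp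

theorem Sg_X (r : ι) : Sg ρ (E.X r) = ∑ t : K, ρ (E.x r t) :=
  Sg_eq_sum ρ _ (hF.x_inj r) fun _ => Iff.rfl

theorem Ts_apply (i : l) (v : V) : Ts E ρ i v = ∑ t : K, ρ (E.x (R.sim i) t) (ρ (ns E i) v) := by
  rw [Ts, Sg_X ρ hF, Module.End.mul_apply, LinearMap.sum_apply]

omit hF in
theorem n_mul_h (h3 : E.R3) (r : ι) {t : K} (ht : t ≠ 0) :
    E.n r 1 * E.h r t = E.h r t⁻¹ * E.n r 1 := by
  have := E.nconj_h_eq r r ht
  rw [R.pair_self, mul_inv_eq_iff_eq_mul] at this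
  rw [this, ← h3.h_inv r (zpow_ne_zero _ ht), h3 r _ _ (inv_ne_zero (zpow_ne_zero _ ht)) ht]
  congr 2
  rw [zpow_ofNat]; field_simp

omit hF in
theorem n_mul_n (h3 : E.R3) (r : ι) : E.n r 1 * E.n r 1 = E.h r (-1) := by
  have := E.n_mul_n_neg r 1 (-1)
  rw [neg_neg, E.h_one, one_mul, ← h3.h_inv r (by simp)] at this
  simpa using this

omit hF in
theorem nxn (h3 : E.R3) {r : ι} (hr : R.Pos r) {t : K} (ht : t ≠ 0) {z : V} (hz : Fix E ρ z) :
    ρ (E.n r 1) (ρ (E.x r t) (ρ (E.n r 1) z)) =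
      ρ (E.x r (-t⁻¹)) (ρ (E.h r (-t⁻¹)) (ρ (E.n r 1) z)) := by
  have h1 := E.nconj_self r one_ne_zero t
  have h2 := E.x_neg_root r t⁻¹
  rw [inv_inv] at h2
  have e : -((1 : K) ^ 2)⁻¹ * t = -t := by simp
  rw [e, h2, mul_inv_eq_iff_eq_mul] at h1
  have h4 : E.n r 1 * E.x r t * E.n r 1 =
      E.x r (-t⁻¹) * E.h r (-t⁻¹) * E.n r 1 * ((E.h r (-1))⁻¹ * E.x r (-t⁻¹) * E.h r (-1)) := by
    rw [h1, mul_assoc _ (E.n r 1), n_mul_n h3, E.n_eq r t⁻¹]
    have h5 : E.h r (-t⁻¹) * E.n r 1 = E.h r t⁻¹ * E.n r 1 * E.h r (-1) := by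
      rw [mul_assoc, n_mul_h h3 r (by simp), ← mul_assoc, h3 r _ _ (inv_ne_zero ht) (by simp)]
      simp
    rw [mul_assoc (E.x r _) (E.h r _), h5]; group
  rw [← rmul, ← rmul, ← rmul, ← rmul, h4, rmul ρ _ (_ * _ * _),
    hz _ (E.H_inv_conj_mem_XS (E.h_mem_H r (by simp)) (E.x_mem_U hr _))]

omit hF in
theorem sum_field_units {M : Type*} [AddCommMonoid M] [DecidableEq K] (f : K → M) :
    ∑ t : K, f t = f 0 + ∑ c : Kˣ, f c := by
  rw [← Finset.add_sum_erase _ _ (Finset.mem_univ 0)]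
  congr 1
  symm
  refine Finset.sum_bij (fun c _ => (c : K)) (fun c _ => by simp) (fun a _ b _ h => Units.ext h)
    (fun b hb => ⟨Units.mk0 b (by simpa using hb), by simp, rfl⟩) fun _ _ => rfl

/-- the quadratic relation -/
theorem Ts_Ts [DecidableEq K] (h3 : E.R3) (hq : (Fintype.card K : k) = 0) (i : l) {z : V}
    (hz : Fix E ρ z) :
    Ts E ρ i (Ts E ρ i z) = ∑ c : Kˣ, ρ (E.h (R.sim i) c) (Ts E ρ i z) := by
  conv_lhs => rw [Ts_apply ρ hF i z, map_sum, sum_field_units]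
  have h0 : Ts E ρ i (ρ (E.x (R.sim i) 0) (ρ (ns E i) z)) = 0 := by
    rw [E.x_zero, map_one, Module.End.one_apply, Ts_apply ρ hF, ← rmul, n_mul_n h3]
    rw [Finset.sum_congr rfl fun t _ =>
      (hz.H ρ (E.h_mem_H _ (by simp))) _ (E.x_mem_U (R.pos_sim i) t)]
    rw [Finset.sum_const, Finset.card_univ, ← Nat.cast_smul_eq_nsmul k, hq, zero_smul]
  rw [h0, zero_add]
  refine Fintype.sum_equiv ((Equiv.inv Kˣ).trans (Equiv.neg Kˣ)) _ _ fun c => ?_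
  rw [Ts, Module.End.mul_apply, nxn ρ h3 (R.pos_sim i) c.ne_zero hz, ← Module.End.mul_apply,
    Sg_mul ρ (E.x_mem_X _ _), ← Module.End.mul_apply, ← E.XS_singleton,
    ← H_mul_Sg ρ (E.h_mem_H _ (by simp))]
  simp

end H64.MR
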