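import Mathlib
import Cfsg.Agent.Lib.ModRep.Hecke
import Cfsg.Agent.Lib.ModRep.Wedd
import Cfsg.Agent.Lib.SplitBN.BorelTits

/-!
Weights (Curtis–Richen) of modular representations of finite groups with root elements.
-/

set_option autoImplicit false
set_option linter.unusedSectionVars false

namespace H64.MR

open H38

variable {ι l : Type} [Fintype l] [DecidableEq l] [Finite ι] {R : RS ι l} {K : Type*} [Field K]
  [Fintype K] [DecidableEq K] {G : Type*} [Group G] [Fintype G] (E : Elts R K G)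
  {k V : Type*} [Field k] [AddCommGroup V] [Module k V] (ρ : Representation k G V)

/-- common eigenvectors of `U`, `H` and the simple Hecke operators -/
structure Pre (v : V) (χ : l → Kˣ →* kˣ) (μ : l → k) : Prop where
  fix : Fix E ρ v
  h : ∀ i (c : Kˣ), ρ (E.h (R.sim i) c) v = (χ i c : k) • v
  ts : ∀ i, Ts E ρ i v = μ i • v

/-- The character of a weight. -/
def ch (ω : l → Option (Kˣ →* kˣ)) (i : l) : Kˣ →* kˣ := (ω i).getD 1

/-- The Hecke eigenvalue of a weight. -/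
def mu (ω : l → Option (Kˣ →* kˣ)) (i : l) : k := (ω i).elim (-1) fun _ => 0

theorem wt_ext {ω ω' : l → Option (Kˣ →* kˣ)} (h1 : ch ω = ch ω') (h2 : mu ω = mu ω') : ω = ω' := by
  funext i
  have e1 := congrFun h1 i
  have e2 := congrFun h2 i
  unfold ch at e1
  unfold mu at e2
  cases h : ω i <;> cases h' : ω' i <;> simp_all

theorem sum_char (hq : (Fintype.card K : k) = 0) (χ : Kˣ →* kˣ) [Decidable (χ = 1)] :
    ∑ c : Kˣ, (χ c : k) = if χ = 1 then -1 else 0 := by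
  split_ifs with h
  · subst h
    simp only [MonoidHom.one_apply, Units.val_one, Finset.sum_const, Finset.card_univ,
      Fintype.card_units, nsmul_eq_mul, mul_one]
    rw [Nat.cast_sub Fintype.card_pos, hq]; simp
  · refine sum_hom_units_eq_zero ((Units.coeHom k).comp χ) fun e => h ?_
    ext c
    exact DFunLike.congr_fun e c

variable {E}

theorem eigen_H {v : V} (hv : ∀ i (c : Kˣ), ∃ a : k, ρ (E.h (R.sim i) c) v = a • v) {h : G}
    (hh : h ∈ E.H) : ∃ a : k, a ≠ 0 ∧ ρ h v = a • v := by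
  by_cases h0 : v = 0
  · exact ⟨1, one_ne_zero, by simp [h0]⟩
  have key : ∀ g (a : k), ρ g v = a • v → a ≠ 0 := by
    rintro g a h rfl
    apply h0
    have : ρ g⁻¹ (ρ g v) = v := by rw [← rmul]; simp
    rw [← this, h]; simp
  rw [E.H_eq_closure_sim] at hh
  induction hh using Subgroup.closure_induction with
  | mem x hx =>
    obtain ⟨i, t, ht, rfl⟩ := hx
    obtain ⟨a, ha⟩ := hv i (Units.mk0 t ht)
    exact ⟨a, key _ _ ha, ha⟩
  | one => exact ⟨1, one_ne_zero, by simp⟩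
  | mul x y _ _ h1 h2 =>
    obtain ⟨a, ha, h1⟩ := h1
    obtain ⟨b, hb, h2⟩ := h2
    exact ⟨a * b, mul_ne_zero ha hb, by rw [rmul, h2, map_smul, h1, smul_smul, mul_comm]⟩
  | inv x _ h1 =>
    obtain ⟨a, ha, h1⟩ := h1
    refine ⟨a⁻¹, inv_ne_zero ha, ?_⟩
    have : ρ x⁻¹ (ρ x v) = v := by rw [← rmul]; simp
    rw [h1, map_smul] at this
    rw [eq_inv_smul_iff₀ ha, this]

namespace Pre

variable {ρ} {v : V} {χ : l → Kˣ →* kˣ} {μ : l → k} (hv : Pre E ρ v χ μ)
include hv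

theorem H {h : G} (hh : h ∈ E.H) : ∃ a : k, a ≠ 0 ∧ ρ h v = a • v :=
  eigen_H ρ (fun i c => ⟨_, hv.h i c⟩) hh

theorem exists_wt (hF : E.Faith) (h3 : E.R3) (hq : (Fintype.card K : k) = 0) (h0 : v ≠ 0) :
    ∃ ω, Pre E ρ v (ch ω) (mu ω) := by
  classical
  have key : ∀ i, μ i = 0 ∨ (μ i = -1 ∧ χ i = 1) := by
    intro i
    have h1 := Ts_Ts ρ hF h3 hq i hv.fix
    simp only [hv.ts, map_smul, hv.h, smul_smul, ← Finset.sum_smul, ← Finset.mul_sum] at h1
    have h2 := smul_left_injective k h0 h1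
    rw [sum_char hq] at h2
    by_cases hm : μ i = 0
    · exact Or.inl hm
    · have h4 := mul_left_cancel₀ hm h2
      split_ifs at h4 with h
      · exact Or.inr ⟨h4, h⟩
      · exact absurd h4 hm
  refine ⟨fun i => if μ i = 0 then some (χ i) else none, hv.fix, fun i c => ?_, fun i => ?_⟩
  · rw [hv.h]
    by_cases hm : μ i = 0
    · simp [ch, hm]
    · simp [ch, hm, ((key i).resolve_left hm).2]
  · rw [hv.ts]
    by_cases hm : μ i = 0
    · simp [mu, hm]
    · have := ((key i).resolve_left hm).1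
      simp [mu, this]

theorem mem_span_xn (hF : E.Faith) (h3 : E.R3) (i : l) :
    v ∈ Submodule.span k (Set.range fun t => ρ (E.x (R.sim i) t) (ρ (ns E i) v)) := by
  set S := Submodule.span k (Set.range fun t => ρ (E.x (R.sim i) t) (ρ (ns E i) v))
  have hS : ∀ t, ρ (E.x (R.sim i) t) (ρ (ns E i) v) ∈ S := fun t => Submodule.subset_span ⟨t, rfl⟩
  have h1 := hv.ts i
  rw [Ts_apply ρ hF] at h1
  by_cases hm : μ i = 0
  · have h2 := congrArg (ρ (ns E i)) h1
    rw [hm, zero_smul, map_zero, map_sum, sum_field_units, E.x_zero, map_one, Module.End.one_apply,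
      ← rmul, n_mul_n h3, add_eq_zero_iff_eq_neg] at h2
    obtain ⟨a, ha, e⟩ := hv.H (E.h_mem_H (R.sim i) (c := -1) (by simp))
    rw [e] at h2
    rw [← S.smul_mem_iff ha, h2]
    refine S.neg_mem (S.sum_mem fun c _ => ?_)
    obtain ⟨b, -, e⟩ := hv.H (E.inv_conj_mem_H (rep_ns i).mem_N
      (E.h_mem_H (R.sim i) (c := -(c : K)⁻¹) (by simp)))
    rw [nxn ρ h3 (R.pos_sim i) c.ne_zero hv.fix, ← rmul ρ (E.h _ _),
      show E.h (R.sim i) (-(c : K)⁻¹) * ns E i =
        ns E i * ((ns E i)⁻¹ * E.h (R.sim i) (-(c : K)⁻¹) * ns E i) by group, rmul, e, map_smul,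
      map_smul]
    exact S.smul_mem _ (hS _)
  · rw [← S.smul_mem_iff hm, ← h1]
    exact S.sum_mem fun t _ => hS t

theorem mem_span_U (hF : E.Faith) (h3 : E.R3) (htop : E.Gp = ⊤) {n0 : G} (hn0 : E.Rep n0 R.w0)
    (g : G) : ρ g v ∈ Submodule.span k {z | ∃ u ∈ E.U, z = ρ u (ρ n0 v)} := by
  set S := Submodule.span k {z | ∃ u ∈ E.U, z = ρ u (ρ n0 v)}
  have hU : ∀ u ∈ E.U, ∀ z ∈ S, ρ u z ∈ S := by
    intro u hu z hz
    have : S.map (ρ u) ≤ S := by
      rw [Submodule.map_span_le]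
      rintro _ ⟨a, ha, rfl⟩
      exact Submodule.subset_span ⟨u * a, E.U.mul_mem hu ha, by rw [rmul]⟩
    exact this ⟨z, hz, rfl⟩
  have key : ∀ w ∈ R.W, ∀ n, E.Rep n (R.w0 * w) → ρ n v ∈ S := by
    intro w hw
    induction hw using R.W_length_induction with
    | one =>
      intro n hn
      rw [mul_one] at hn
      obtain ⟨a, -, e⟩ := hv.H (Elts.Rep.inv_mul_mem_H E hn0 hn)
      rw [show n = n0 * (n0⁻¹ * n) by group, rmul, e, map_smul]
      exact S.smul_mem _ (Submodule.subset_span ⟨1, E.U.one_mem, by simp⟩)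
    | step w hw i hp ih =>
      intro n hn
      have h1 : E.Rep (n * ns E i) (R.w0 * w) := by
        have := hn.mul (rep_ns i)
        rwa [mul_assoc, mul_assoc, R.s_mul_self, mul_one] at this
      have h2 : R.Pos ((R.w0 * (w * R.s i)) (R.sim i)) := by
        rw [Equiv.Perm.mul_apply, Equiv.Perm.mul_apply, R.pos_w0_iff, R.s_sim, R.W_neg hw,
          R.not_pos_neg_iff]
        exact hp
      have h4 : (Submodule.span k (Set.range fun t => ρ (E.x (R.sim i) t) (ρ (ns E i) v))).map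
          (ρ n) ≤ S := by
        rw [Submodule.map_span_le]
        rintro _ ⟨t, rfl⟩
        obtain ⟨c, -, hc⟩ := hn.conj_x (R.sim i)
        rw [← rmul, ← rmul, show n * E.x (R.sim i) t * ns E i =
          (n * E.x (R.sim i) t * n⁻¹) * (n * ns E i) by group, rmul, hc]
        exact hU _ (E.x_mem_U h2 _) _ (ih _ h1)
      exact h4 ⟨v, hv.mem_span_xn hF h3 i, rfl⟩
  obtain ⟨b, hb, n, w, hn, u, hu, rfl⟩ := E.bruhat (g := g) (htop ▸ Subgroup.mem_top g)
  obtain ⟨a, ha, h, hh, rfl⟩ := E.mem_B.1 hb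
  rw [rmul, hv.fix u (E.XS_mono (fun _ h => h.1) hu), mul_assoc, rmul]
  refine hU a ha _ (key (R.w0 * w) (R.W.mul_mem R.w0_mem hn.mem_W) _ ?_)
  rw [← mul_assoc, R.w0_mul_self]
  exact (E.rep_of_mem_H hh).mul hn

theorem mem_span_V (hF : E.Faith) (h3 : E.R3) (htop : E.Gp = ⊤) (g : G) :
    ρ g v ∈ Submodule.span k {z | ∃ y ∈ E.V, z = ρ y v} := by
  obtain ⟨n0, hn0⟩ := E.exists_rep_of_mem_W R.w0_mem
  have h1 := hv.mem_span_U hF h3 htop hn0 (n0 * g)
  have h2 : (Submodule.span k {z | ∃ u ∈ E.U, z = ρ u (ρ n0 v)}).map (ρ n0⁻¹) ≤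
      Submodule.span k {z | ∃ y ∈ E.V, z = ρ y v} := by
    rw [Submodule.map_span_le]
    rintro _ ⟨u, hu, rfl⟩
    refine Submodule.subset_span ⟨n0⁻¹ * u * n0, hn0.inv_conj_mem_XS (T := {r | ¬ R.Pos r})
      (fun r hr => ?_) hu, by rw [rmul, rmul]⟩
    rw [inv_eq_of_mul_eq_one_right R.w0_mul_self]
    exact fun h => (R.pos_w0_iff r).1 h hr
  refine h2 ⟨_, h1, ?_⟩
  rw [← rmul]; simp

theorem alg_mem_span_V (hF : E.Faith) (h3 : E.R3) (htop : E.Gp = ⊤) (a : MonoidAlgebra k G) :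
    ρ.asAlgebraHom a v ∈ Submodule.span k {z | ∃ y ∈ E.V, z = ρ y v} := by
  induction a using MonoidAlgebra.induction_linear with
  | zero => simp
  | add a b ha hb => rw [map_add, LinearMap.add_apply]; exact Submodule.add_mem _ ha hb
  | single g r =>
    rw [Representation.asAlgebraHom_single, LinearMap.smul_apply]
    exact Submodule.smul_mem _ _ (hv.mem_span_V hF h3 htop g)

theorem exists_T_eq (hF : E.Faith) {n : G} {w : Equiv.Perm ι} (hn : E.Rep n w) :
    ∃ c : k, T E ρ n w v = c • v := by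
  have key : ∀ w ∈ R.W, ∀ n, E.Rep n w⁻¹ → ∃ c : k, T E ρ n w⁻¹ v = c • v := by
    intro w hw
    induction hw using R.W_length_induction with
    | one =>
      intro n hn
      rw [inv_one] at hn ⊢
      obtain ⟨a, -, e⟩ := hv.H (Elts.Rep.mem_H E hn)
      exact ⟨a, by rw [T_one, e]⟩
    | step w hw i hp ih =>
      intro n hn
      have e : R.s i * (w * R.s i)⁻¹ = w⁻¹ := by
        rw [mul_inv_rev, R.s_inv, ← mul_assoc, R.s_mul_self, one_mul]
      have h1 : E.Rep ((ns E i)⁻¹ * n) w⁻¹ := by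
        have := (rep_ns (E := E) i).inv.mul hn
        rwa [R.s_inv, e] at this
      obtain ⟨c, hc⟩ := ih _ h1
      refine ⟨c * μ i, ?_⟩
      rw [T_step' ρ hF hn (i := i), e, Module.End.mul_apply, hc, map_smul, hv.ts, smul_smul]
      rw [inv_inv, Equiv.Perm.mul_apply, R.s_sim, R.W_neg hw, R.not_pos_neg_iff]
      exact hp
  simpa using key w⁻¹ (R.W.inv_mem hn.mem_W) n (by simpa using hn)

theorem prod {V' : Type*} [AddCommGroup V'] [Module k V'] {ρ' : Representation k G V'} {v' : V'}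
    (hF : E.Faith) (hv' : Pre E ρ' v' χ μ) : Pre E (ρ.prod ρ') (v, v') χ μ where
  fix u hu := Prod.ext (hv.fix u hu) (hv'.fix u hu)
  h i c := Prod.ext (hv.h i c) (hv'.h i c)
  ts i := by
    have h1 := hv.ts i
    have h2 := hv'.ts i
    rw [Ts_apply _ hF] at h1 h2 ⊢
    refine Prod.ext ?_ ?_
    · rw [Prod.fst_sum]; exact h1
    · rw [Prod.snd_sum]; exact h2

theorem transfer (hF : E.Faith) {V' : Type*} [AddCommGroup V'] [Module k V']
    {ρ' : Representation k G V'} {v' : V'}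
    (h : ∀ a, ρ.asAlgebraHom a v = 0 → ρ'.asAlgebraHom a v' = 0) : Pre E ρ' v' χ μ where
  fix u hu := by
    have := h (MonoidAlgebra.single u 1 - 1) (by simp [hv.fix u hu])
    simpa [sub_eq_zero] using this
  h i c := by
    have := h (MonoidAlgebra.single (E.h (R.sim i) c) 1 - (χ i c : k) • 1) (by simp [hv.h])
    simpa [sub_eq_zero] using this
  ts i := by
    have h1 := hv.ts i
    rw [Ts_apply _ hF] at h1 ⊢
    have := h (∑ t, MonoidAlgebra.single (E.x (R.sim i) t * ns E i) 1 - μ i • 1) (by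
      simp [map_sum, LinearMap.sum_apply, h1])
    simpa [map_sum, LinearMap.sum_apply, sub_eq_zero] using this

end Pre

variable (p : ℕ) [hp : Fact p.Prime] [CharP K p] [CharP k p]

include hp in
theorem card_eq_zero : (Fintype.card K : k) = 0 := by
  rw [CharP.cast_eq_zero_iff k p, ← Nat.card_eq_fintype_card]
  exact SBN.char_dvd_card p

include hp in
/-- every non-zero module has a weight vector -/
theorem exists_wt [IsAlgClosed k] [FiniteDimensional k V] [Nontrivial V] (hF : E.Faith)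
    (h3 : E.R3) : ∃ v : V, v ≠ 0 ∧ ∃ ω, Pre E ρ v (ch ω) (mu ω) := by
  classical
  have hq : (Fintype.card K : k) = 0 := card_eq_zero p
  obtain ⟨v0, h0, hv0⟩ := exists_fixed ρ p (SBN.isPGroup_U p hF)
  let W : Submodule k V :=
    { carrier := {v | Fix E ρ v}
      add_mem' := fun ha hb u hu => by rw [map_add, ha u hu, hb u hu]
      zero_mem' := fun u _ => map_zero _
      smul_mem' := fun c _ h => h.smul ρ c }
  obtain ⟨v, hv, hne, he⟩ := exists_common_eigen (S := ρ '' E.H) (W := W) (by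
      rintro _ ⟨a, ha, rfl⟩ _ ⟨b, hb, rfl⟩
      exact (Elts.H_comm h3 ha hb).map ρ)
    ((Submodule.ne_bot_iff _).2 ⟨v0, hv0, h0⟩) (by rintro _ ⟨a, ha, rfl⟩ z hz; exact Fix.H ρ hz ha)
  obtain ⟨w, ⟨n, hn, hnv⟩, hmax⟩ := Set.Finite.exists_maximalFor (fun w => R.ln w⁻¹)
    {w | ∃ n, E.Rep n w ∧ T E ρ n w v ≠ 0} (Set.toFinite _)
    ⟨1, 1, E.rep_one, by simpa [T_one] using hne⟩
  set z := T E ρ n w v with hz
  have hzH : ∀ h ∈ E.H, ∃ a : k, ρ h z = a • z := by
    intro h hh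
    obtain ⟨a, ha⟩ := he _ ⟨_, E.inv_conj_mem_H hn.mem_N hh, rfl⟩
    exact ⟨a, by rw [hz, H_T_apply ρ hh, ha, map_smul]⟩
  have h1 : ∀ i (c : Kˣ), ∃ a : kˣ, ρ (E.h (R.sim i) c) z = (a : k) • z := by
    intro i c
    obtain ⟨a, ha, e⟩ := eigen_H ρ (fun i c => hzH _ (E.h_mem_H _ c.ne_zero))
      (E.h_mem_H (R.sim i) c.ne_zero)
    exact ⟨Units.mk0 a ha, e⟩
  choose a ha using h1
  let χ : l → Kˣ →* kˣ := fun i => MonoidHom.mk' (a i) fun c d => by
    apply Units.ext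
    apply smul_left_injective k hnv
    simp only
    rw [← ha, Units.val_mul, ← h3 _ _ _ c.ne_zero d.ne_zero, rmul, ha, map_smul, ha, smul_smul,
      Units.val_mul, mul_comm]
  have h2 : ∀ i, ∃ m : k, Ts E ρ i z = m • z := by
    intro i
    by_cases hp : R.Pos (w⁻¹ (R.sim i))
    · refine ⟨0, ?_⟩
      rw [zero_smul, hz, ← Module.End.mul_apply, ← T_step ρ hF hn hp]
      by_contra hc
      have h4 : R.ln (R.s i * w)⁻¹ = R.ln w⁻¹ + 1 := by
        rw [mul_inv_rev, R.s_inv, R.ln_mul_s_of_pos (R.W.inv_mem hn.mem_W) hp]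
      have := hmax (j := R.s i * w) ⟨_, (rep_ns i).mul hn, hc⟩ (by simp only [h4]; omega)
      simp only [h4] at this
      omega
    · have h4 : E.Rep ((ns E i)⁻¹ * n) (R.s i * w) := by
        have := (rep_ns (E := E) i).inv.mul hn
        rwa [R.s_inv] at this
      have h5 : z = Ts E ρ i (T E ρ ((ns E i)⁻¹ * n) (R.s i * w) v) := by
        rw [hz, T_step' ρ hF hn hp]; rfl
      refine ⟨∑ c : Kˣ, (a i c : k), ?_⟩
      rw [Finset.sum_smul]
      conv_lhs => rw [h5, Ts_Ts ρ hF h3 hq i (Fix.T ρ hF hv h4), ← h5]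
      exact Finset.sum_congr rfl fun c _ => ha i c
  choose μ hμ using h2
  exact ⟨z, hnv, Pre.exists_wt (χ := χ) (μ := μ) ⟨Fix.T ρ hF hv hn, ha, hμ⟩ hF h3 hq hnv⟩

include hp in
theorem exists_V_functional [Nontrivial V] (hF : E.Faith) :
    ∃ φ : Module.Dual k V, φ ≠ 0 ∧ ∀ y ∈ E.V, ∀ z, φ (ρ y z) = φ z := by
  obtain ⟨n0, -, h⟩ := E.exists_conj_U_eq_V
  have hV : IsPGroup p E.V := h ▸ (SBN.isPGroup_U p hF).map _
  obtain ⟨φ, h0, hφ⟩ := exists_fixed ρ.dual p hV
  refine ⟨φ, h0, fun y hy z => ?_⟩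
  have := hφ y⁻¹ (E.V.inv_mem hy)
  rw [Representation.dual_apply, inv_inv] at this
  exact LinearMap.congr_fun this z

theorem V_decomp (i : l) {c : G} (hc : c ∈ E.V) : ∃ a ∈ E.X (R.neg (R.sim i)),
    ∃ b ∈ E.XS {r | ¬ R.Pos r ∧ r ≠ R.neg (R.sim i)}, c = a * b := by
  obtain ⟨a, ha, b, hb, e⟩ := (E.filt_W R.closed_neg R.w0_mem
    (fun r hr => (R.pos_w0_iff r).2 hr)).exists_mul (Set.toFinite _)
    (S1 := {R.neg (R.sim i)}) (S2 := {r | r ≠ R.neg (R.sim i)}) (fun r _ => em _) hc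
  exact ⟨a, E.XS_singleton _ ▸ E.XS_mono Set.inter_subset_right ha, b, hb, e⟩

theorem ns_conj_mem_V (i : l) {b : G} (hb : b ∈ E.XS {r | ¬ R.Pos r ∧ r ≠ R.neg (R.sim i)}) :
    ns E i * b * (ns E i)⁻¹ ∈ E.V := by
  refine (rep_ns i).conj_mem_XS (T := {r | ¬ R.Pos r}) (fun r hr => ?_) hb
  have h1 := (R.pos_s_iff (i := i) ((R.pos_neg_iff r).2 hr.1)).2 fun e => hr.2 (by rw [← e, R.neg_neg])
  rw [R.W_neg (R.s_mem_W i), R.pos_neg_iff] at h1
  exact h1

/-- the lowest weight functional determines the weight -/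
theorem Pre.unique (hF : E.Faith) {φ : Module.Dual k V} (h0 : φ ≠ 0)
    (hφ : ∀ y ∈ E.V, ∀ z, φ (ρ y z) = φ z) {v v' : V} {χ χ' : l → Kˣ →* kˣ} {μ μ' : l → k}
    (hv : Pre E ρ v χ μ) (hv' : Pre E ρ v' χ' μ')
    (hs : Submodule.span k {z | ∃ y ∈ E.V, z = ρ y v} = ⊤)
    (hs' : Submodule.span k {z | ∃ y ∈ E.V, z = ρ y v'} = ⊤) : χ = χ' ∧ μ = μ' := by
  have ext : ∀ {v : V}, Submodule.span k {z | ∃ y ∈ E.V, z = ρ y v} = ⊤ →
      ∀ ψ : Module.Dual k V, (∀ y ∈ E.V, ∀ z, ψ (ρ y z) = ψ z) → ψ v = 0 → ψ = 0 := by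
    intro v hs ψ h1 h2
    refine LinearMap.ext_on hs ?_
    rintro _ ⟨y, hy, rfl⟩
    rw [h1 y hy, h2]; rfl
  have hne : φ v' ≠ 0 := fun h => h0 (ext hs' φ hφ h)
  have key : ∀ ψ : Module.Dual k V, (∀ y ∈ E.V, ∀ z, ψ (ρ y z) = ψ z) → ∀ a a' : k,
      ψ v = a * φ v → ψ v' = a' * φ v' → a = a' := by
    intro ψ hψ a a' h1 h2
    have := ext hs (ψ - a • φ) (fun y hy z => by simp [hψ y hy, hφ y hy]) (by simp [h1])
    have h3 := LinearMap.congr_fun this v'
    simp only [LinearMap.sub_apply, LinearMap.smul_apply, smul_eq_mul, LinearMap.zero_apply, h2,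
      sub_eq_zero] at h3
    exact (mul_right_cancel₀ hne h3).symm
  constructor
  · funext i
    ext c
    refine key (φ.comp (ρ (E.h (R.sim i) c))) (fun y hy z => ?_) _ _ (by simp [hv.h])
      (by simp [hv'.h])
    have hh := E.h_mem_H (R.sim i) c.ne_zero
    simp only [LinearMap.comp_apply]
    rw [← rmul, show E.h (R.sim i) c * y = (E.h (R.sim i) c * y * (E.h (R.sim i) c)⁻¹) *
      E.h (R.sim i) c by group, rmul, hφ _ (E.H_conj_mem_XS hh hy)]
  · funext i
    let ψ : Module.Dual k V := Sg ρ.dual (E.X (R.neg (R.sim i))) (φ.comp (ρ (ns E i)))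
    have hψ : ∀ z, Fix E ρ z → ψ z = φ (Ts E ρ i z) := by
      intro z hz
      simp only [ψ]
      rw [Sg_X _ hF, Ts_apply ρ hF, map_sum, LinearMap.sum_apply, LinearMap.sum_apply]
      refine Finset.sum_congr rfl fun t _ => ?_
      rw [Representation.dual_apply, Module.Dual.transpose_apply, LinearMap.comp_apply,
        LinearMap.comp_apply, ← rmul, ← rmul, ← E.x_neg]
      have := E.nconj_neg_self (R.sim i) one_ne_zero (-t)
      rw [mul_inv_eq_iff_eq_mul] at this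
      rw [this]; simp
    refine key ψ (fun y hy z => ?_) _ _ (by rw [hψ v hv.fix, hv.ts]; simp)
      (by rw [hψ v' hv'.fix, hv'.ts]; simp)
    have := fix_Sg ρ.dual (A := E.X (R.neg (R.sim i))) (C := E.V)
      (B := E.XS {r | ¬ R.Pos r ∧ r ≠ R.neg (R.sim i)}) (z := φ.comp (ρ (ns E i)))
      (by rintro _ ⟨t, rfl⟩; exact E.x_mem_V ((R.not_pos_neg_iff _).2 (R.pos_sim i)) t)
      (by
        rintro _ ⟨t, rfl⟩ h
        have h1 := ns_conj_mem_V i h
        rw [E.nconj_neg_self _ one_ne_zero] at h1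
        have h2 := hF.x_eq_one _ _ (hF.B_inf_V _ (E.U_le_B (E.x_mem_U (R.pos_sim i) _)) h1)
        have : t = 0 := by simpa using h2
        rw [this, E.x_zero])
      (fun c hc => V_decomp i hc)
      (fun b hb => by
        rw [Representation.dual_apply, Module.Dual.transpose_apply]
        refine LinearMap.ext fun z => ?_
        simp only [LinearMap.comp_apply]
        rw [← rmul, show ns E i * b⁻¹ = (ns E i * b⁻¹ * (ns E i)⁻¹) * ns E i by group, rmul,
          hφ _ (ns_conj_mem_V i (Subgroup.inv_mem _ hb))])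
      (E.V.inv_mem hy)
    rw [Representation.dual_apply, inv_inv] at this
    exact LinearMap.congr_fun this z

namespace Wedd

variable (W : Wedd k G) (hF : E.Faith) (h3 : E.R3) (htop : E.Gp = ⊤)
include hF h3 htop

theorem span_eq_top {j : Fin W.n} {v : Fin (W.d j) → k} (h0 : v ≠ 0) {χ : l → Kˣ →* kˣ} {μ : l → k}
    (hv : Pre E (W.rep j) v χ μ) :
    Submodule.span k {z | ∃ y ∈ E.V, z = W.rep j y v} = ⊤ := by
  rw [eq_top_iff]
  intro z _
  obtain ⟨a, rfl⟩ := W.exists_alg_apply j h0 z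
  rw [← W.asAlgebraHom_rep]
  exact hv.alg_mem_span_V hF h3 htop a

include hp in
theorem wt_unique {j : Fin W.n} {v v' : Fin (W.d j) → k} (h0 : v ≠ 0) (h0' : v' ≠ 0)
    {ω ω' : l → Option (Kˣ →* kˣ)} (hv : Pre E (W.rep j) v (ch ω) (mu ω))
    (hv' : Pre E (W.rep j) v' (ch ω') (mu ω')) : ω = ω' := by
  obtain ⟨φ, hφ0, hφ⟩ := exists_V_functional (W.rep j) p hF
  obtain ⟨h1, h2⟩ := Pre.unique _ hF hφ0 hφ hv hv' (W.span_eq_top hF h3 htop h0 hv)
    (W.span_eq_top hF h3 htop h0' hv')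
  exact wt_ext h1 h2

include hp in
theorem eq_of_wt {j j' : Fin W.n} {v : Fin (W.d j) → k} {v' : Fin (W.d j') → k} (h0 : v ≠ 0)
    (h0' : v' ≠ 0) {χ : l → Kˣ →* kˣ} {μ : l → k} (hv : Pre E (W.rep j) v χ μ)
    (hv' : Pre E (W.rep j') v' χ μ) : j = j' := by
  by_contra hne
  obtain ⟨φ, hφ0, hφ⟩ := exists_V_functional (W.rep j) p hF
  obtain ⟨φ', hφ0', hφ'⟩ := exists_V_functional (W.rep j') p hF
  have h1 : φ v ≠ 0 := fun h => hφ0 (LinearMap.ext_on (W.span_eq_top hF h3 htop h0 hv) (by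
    rintro _ ⟨y, hy, rfl⟩; rw [hφ y hy, h]; rfl))
  have h2 : φ' v' ≠ 0 := fun h => hφ0' (LinearMap.ext_on (W.span_eq_top hF h3 htop h0' hv') (by
    rintro _ ⟨y, hy, rfl⟩; rw [hφ' y hy, h]; rfl))
  obtain ⟨a, ha, ha'⟩ := W.exists_sep hne
  have h4 := (hv.prod hF hv').alg_mem_span_V hF h3 htop a
  have h5 : ∀ a, ((W.rep j).prod (W.rep j')).asAlgebraHom a (v, v') =
      (W.alg j a v, W.alg j' a v') := by
    intro a
    induction a using MonoidAlgebra.induction_linear with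
    | zero => simp [Prod.ext_iff]
    | add a b ha hb => simp [ha, hb]
    | single g r =>
      rw [← W.asAlgebraHom_rep, ← W.asAlgebraHom_rep]
      simp only [Representation.asAlgebraHom_single, LinearMap.smul_apply]
      rfl
  rw [h5, ha, ha'] at h4
  let Φ : Module.Dual k ((Fin (W.d j) → k) × (Fin (W.d j') → k)) :=
    φ' v' • φ.comp (LinearMap.fst _ _ _) - φ v • φ'.comp (LinearMap.snd _ _ _)
  have h6 : Submodule.span k {z | ∃ y ∈ E.V, z = (W.rep j).prod (W.rep j') y (v, v')} ≤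
      LinearMap.ker Φ := by
    rw [Submodule.span_le]
    rintro _ ⟨y, hy, rfl⟩
    change φ' v' • φ (W.rep j y v) - φ v • φ' (W.rep j' y v') = 0
    rw [hφ y hy, hφ' y hy, smul_eq_mul, smul_eq_mul, mul_comm, sub_self]
  have h7 := h6 h4
  simp [Φ, h1, h2] at h7

/-- a simple module on which a trace `Tr_1^G(a)` acts as the identity has the Steinberg weight -/
theorem mu_ne_zero {j : Fin W.n} {a : MonoidAlgebra k G}
    (ha : W.alg j (∑ g, MonoidAlgebra.single g 1 * a * MonoidAlgebra.single g⁻¹ 1) = 1)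
    {v : Fin (W.d j) → k} (h0 : v ≠ 0) {χ : l → Kˣ →* kˣ} {μ : l → k}
    (hv : Pre E (W.rep j) v χ μ) (i : l) : μ i ≠ 0 := by
  obtain ⟨n0, hn0⟩ := E.exists_rep_of_mem_W R.w0_mem
  have h1 : v ∈ LinearMap.range (Sg (W.rep j) E.U) := by
    have := sum_mem_range_Sg (W.rep j) (A := E.U)
      (fun g => W.rep j g (W.alg j a (W.rep j g⁻¹ v))) fun u hu g => by
        rw [rmul, mul_inv_rev, rmul, hv.fix _ (E.U.inv_mem hu)]
    convert this using 1
    have e := LinearMap.congr_fun ha v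
    rw [map_sum, LinearMap.sum_apply] at e
    simp only [map_mul, Module.End.mul_apply, ← W.rep_apply] at e
    exact e.symm
  have h2 : T E (W.rep j) n0 R.w0 v ≠ 0 := by
    intro h
    obtain ⟨z, hz⟩ := h1
    obtain ⟨b, rfl⟩ := W.exists_alg_apply j h0 z
    have h4 : Submodule.span k {z | ∃ u ∈ E.U, z = W.rep j u (W.rep j n0 v)} ≤
        LinearMap.ker (Sg (W.rep j) E.U) := by
      rw [Submodule.span_le]
      rintro _ ⟨u, hu, rfl⟩
      rw [T_w0] at h
      rw [SetLike.mem_coe, LinearMap.mem_ker, ← Module.End.mul_apply, Sg_mul _ hu]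
      exact h
    have h5 : ∀ b, W.alg j b v ∈ LinearMap.ker (Sg (W.rep j) E.U) := by
      intro b
      induction b using MonoidAlgebra.induction_linear with
      | zero => simp
      | add a b ha hb => rw [map_add, LinearMap.add_apply]; exact Submodule.add_mem _ ha hb
      | single g r =>
        rw [← W.asAlgebraHom_rep, Representation.asAlgebraHom_single, LinearMap.smul_apply]
        exact Submodule.smul_mem _ _ (h4 (hv.mem_span_U hF h3 htop hn0 g))
    exact h0 (hz.symm.trans (h5 b))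
  intro hm
  apply h2
  have h4 : E.Rep ((ns E i)⁻¹ * n0) (R.s i * R.w0) := by
    have := (rep_ns (E := E) i).inv.mul hn0
    rwa [R.s_inv] at this
  obtain ⟨c, hc⟩ := hv.exists_T_eq hF h4
  rw [T_step' _ hF hn0 (i := i), Module.End.mul_apply, hc, map_smul, hv.ts, hm, zero_smul, smul_zero]
  rw [inv_eq_of_mul_eq_one_right R.w0_mul_self, R.pos_w0_iff, not_not]
  exact R.pos_sim i

include hp in
/-- at most one simple module is projective -/
theorem eq_of_trace [IsAlgClosed k] {j j' : Fin W.n} {a a' : MonoidAlgebra k G}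
    (ha : W.alg j (∑ g, MonoidAlgebra.single g 1 * a * MonoidAlgebra.single g⁻¹ 1) = 1)
    (ha' : W.alg j' (∑ g, MonoidAlgebra.single g 1 * a' * MonoidAlgebra.single g⁻¹ 1) = 1) :
    j = j' := by
  obtain ⟨v, h0, ω, hv⟩ := exists_wt (W.rep j) p hF h3
  obtain ⟨v', h0', ω', hv'⟩ := exists_wt (W.rep j') p hF h3
  have key : ∀ ω : l → Option (Kˣ →* kˣ), (∀ i, mu ω i ≠ 0) → ω = fun _ => none := by
    intro ω h
    funext i
    have := h i
    unfold mu at this
    cases h' : ω i <;> simp_all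
  have e1 := key ω (W.mu_ne_zero hF h3 htop ha h0 hv)
  have e2 := key ω' (W.mu_ne_zero hF h3 htop ha' h0' hv')
  subst e1 e2
  exact W.eq_of_wt p hF h3 htop h0 h0' hv hv'

end Wedd

end H64.MR
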