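import Mathlib
import Cfsg.Agent.Lib.ModRep.Weights

/-!
Existence of modules with a given weight; Steinberg's count of semisimple classes.
-/

set_option autoImplicit false
set_option linter.unusedSectionVars false

namespace H64.MR

open H38

variable {ι l : Type} [Fintype l] [DecidableEq l] {R : RS ι l}

section Exchange

variable {Q : Type*} [Group Q] (t : l → Q) (π : Q →* Equiv.Perm ι) {J : Set l}

theorem exchangeJ (ht : ∀ i ∈ J, t i * t i = 1) (hπ : ∀ i ∈ J, π (t i) = R.s i)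
    (hc : ∀ (L : List l), (∀ i ∈ L, i ∈ J) → ∀ i ∈ J, ∀ j ∈ J,
      π (L.map t).prod (R.sim i) = R.sim j → (L.map t).prod * t i = t j * (L.map t).prod)
    (L : List l) (hL : ∀ i ∈ L, i ∈ J) (i : l) (hi : i ∈ J)
    (h : ¬ R.Pos (π (L.map t).prod (R.sim i))) :
    ∃ L' : List l, L'.length + 1 = L.length ∧ L' ⊆ L ∧ (L.map t).prod * t i = (L'.map t).prod := by
  induction L with
  | nil => exact absurd (by simpa using R.pos_sim i) h
  | cons a L ih =>
    have ha : a ∈ J := hL a (by simp)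
    have hL' : ∀ i ∈ L, i ∈ J := fun i h => hL i (by simp [h])
    by_cases h0 : R.Pos (π (L.map t).prod (R.sim i))
    · refine ⟨L, by simp, List.subset_cons_self _ _, ?_⟩
      rw [List.map_cons, List.prod_cons, map_mul, hπ a ha, Equiv.Perm.mul_apply, R.pos_s_iff h0,
        not_not] at h
      rw [List.map_cons, List.prod_cons, mul_assoc, hc L hL' i hi a ha h, ← mul_assoc, ht a ha,
        one_mul]
    · obtain ⟨L', h1, h2, h3⟩ := ih hL' h0
      refine ⟨a :: L', by simp [h1], List.cons_subset_cons a h2, ?_⟩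
      rw [List.map_cons, List.prod_cons, mul_assoc, h3]; simp

theorem list_prod_eq_oneJ (ht : ∀ i ∈ J, t i * t i = 1) (hπ : ∀ i ∈ J, π (t i) = R.s i)
    (hc : ∀ (L : List l), (∀ i ∈ L, i ∈ J) → ∀ i ∈ J, ∀ j ∈ J,
      π (L.map t).prod (R.sim i) = R.sim j → (L.map t).prod * t i = t j * (L.map t).prod)
    (L : List l) (hL : ∀ i ∈ L, i ∈ J)
    (h : ∀ i ∈ J, R.Pos (π (L.map t).prod (R.sim i))) : (L.map t).prod = 1 := by
  induction hn : L.length using Nat.strong_induction_on generalizing L with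
  | _ n ih =>
    rcases List.eq_nil_or_concat L with rfl | ⟨L0, i, rfl⟩
    · simp
    · have hi : i ∈ J := hL i (by simp)
      have hL0 : ∀ i ∈ L0, i ∈ J := fun i h => hL i (by simp [h])
      have hW : π (L0.map t).prod ∈ R.W := by
        rw [map_list_prod, List.map_map]
        refine Subgroup.list_prod_mem _ fun x hx => ?_
        obtain ⟨j, hj, rfl⟩ := List.mem_map.1 hx
        rw [Function.comp_apply, hπ j (hL0 j hj)]
        exact R.s_mem_W j
      have h1 := h i hi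
      simp only [List.concat_eq_append, List.map_append, List.map_cons, List.map_nil,
        List.prod_append, List.prod_cons, List.prod_nil, mul_one] at h h1 ⊢
      rw [map_mul, hπ i hi, Equiv.Perm.mul_apply, R.s_sim, R.W_neg hW, R.pos_neg_iff] at h1
      obtain ⟨L', h2, h3, h4⟩ := exchangeJ t π ht hπ hc L0 hL0 i hi h1
      rw [h4] at h ⊢
      refine ih L'.length ?_ L' (fun j hj => hL0 j (h3 hj)) h rfl
      simp at hn; omega

end Exchange

variable {K : Type*} [Field K] {G : Type*} [Group G] {E : Elts R K G}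

theorem mem_NJ_list {J : Set l} {L : List l} (hL : ∀ i ∈ L, i ∈ J) :
    (L.map fun i => E.n (R.sim i) 1).prod ∈ E.NJ J := by
  refine Subgroup.list_prod_mem _ fun x hx => ?_
  obtain ⟨j, hj, rfl⟩ := List.mem_map.1 hx
  exact Subgroup.subset_closure ⟨j, hL j hj, rfl⟩

/-- The kernel of `N_J → W_J` lies in any `N_J`-invariant subgroup containing the `h_j(c)`. -/
theorem mem_of_rep_one (hF : E.Faith) {J : Set l} {Z : Subgroup G}
    (hZ : ∀ n ∈ E.NJ J, ∀ z ∈ Z, n * z * n⁻¹ ∈ Z)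
    (hh : ∀ j ∈ J, ∀ c : K, c ≠ 0 → E.h (R.sim j) c ∈ Z) {n : G} (hn : n ∈ E.NJ J)
    (h1 : E.Rep n 1) : n ∈ Z := by
  classical
  let Z' : Subgroup (E.NJ J) := Z.subgroupOf (E.NJ J) ⊓ (E.H.subgroupOf (E.NJ J))
  haveI : Z'.Normal := ⟨fun z hz m => ⟨hZ m m.2 z hz.1, E.conj_mem_H (E.NJ_le_N J m.2) hz.2⟩⟩
  let φ : E.NJ J →* Equiv.Perm ι :=
    (R.W.subtype.comp hF.toW).comp (Subgroup.inclusion (E.NJ_le_N J))
  have hφ : ∀ (m : E.NJ J) w, E.Rep m w → φ m = w := fun m w h =>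
    hF.toW_eq (n := ⟨m, E.NJ_le_N J m.2⟩) h
  let π : E.NJ J ⧸ Z' →* Equiv.Perm ι :=
    QuotientGroup.lift Z' φ fun z hz => hφ z 1 (E.rep_of_mem_H hz.2)
  let a : l → E.NJ J := fun i =>
    if hi : i ∈ J then ⟨E.n (R.sim i) 1, Subgroup.subset_closure ⟨i, hi, rfl⟩⟩ else 1
  have ha : ∀ i ∈ J, (a i : G) = E.n (R.sim i) 1 := fun i hi => by simp [a, hi]
  let t : l → E.NJ J ⧸ Z' := fun i => QuotientGroup.mk (a i)
  have hnn : ∀ j ∈ J, ∀ c d : K, c ≠ 0 → d ≠ 0 → E.n (R.sim j) c * E.n (R.sim j) d ∈ Z := by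
    intro j hj c d hc hd
    have := E.n_mul_n_neg (R.sim j) c (-d)
    rw [neg_neg] at this
    rw [this]
    exact Z.mul_mem (hh j hj c hc) (Z.inv_mem (hh j hj _ (by simpa using hd)))
  have ht : ∀ i ∈ J, t i * t i = 1 := fun i hi => by
    rw [← QuotientGroup.mk_mul, QuotientGroup.eq_one_iff]
    constructor
    · change (a i : G) * a i ∈ Z
      rw [ha i hi]; exact hnn i hi 1 1 one_ne_zero one_ne_zero
    · change (a i : G) * a i ∈ E.H
      rw [ha i hi]; exact E.n_mul_n_mem_H _ one_ne_zero one_ne_zero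
  have hπ : ∀ i ∈ J, π (t i) = R.s i := fun i hi =>
    hφ _ _ (by rw [ha i hi]; exact E.rep_n_sim i one_ne_zero)
  have hprod : ∀ L : List l, (hL : ∀ i ∈ L, i ∈ J) → (L.map t).prod =
      QuotientGroup.mk (⟨_, mem_NJ_list hL⟩ : E.NJ J) := by
    intro L
    induction L with
    | nil => intro _; rfl
    | cons i L ih =>
      intro hL
      rw [List.map_cons, List.prod_cons, ih fun j hj => hL j (by simp [hj]), ← QuotientGroup.mk_mul]
      congr 1
      exact Subtype.ext (by simp [ha i (hL i (by simp))])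
  have hlist : ∀ m : E.NJ J, ∃ L : List l, (∀ i ∈ L, i ∈ J) ∧
      (QuotientGroup.mk m : E.NJ J ⧸ Z') = (L.map t).prod := by
    rintro ⟨m, hm⟩
    induction hm using Subgroup.closure_induction_left with
    | one => exact ⟨[], by simp, rfl⟩
    | mul_left x hx y hy ih =>
      obtain ⟨j, hj, rfl⟩ := hx
      obtain ⟨L, hL, e⟩ := ih
      refine ⟨j :: L, by simpa [hj] using hL, ?_⟩
      rw [List.map_cons, List.prod_cons, ← e, ← QuotientGroup.mk_mul]
      congr 1
      exact Subtype.ext (by simp [ha j hj])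
    | inv_mul_cancel x hx y hy ih =>
      obtain ⟨j, hj, rfl⟩ := hx
      obtain ⟨L, hL, e⟩ := ih
      refine ⟨j :: L, by simpa [hj] using hL, ?_⟩
      rw [List.map_cons, List.prod_cons, ← e, ← inv_eq_of_mul_eq_one_right (ht j hj),
        ← QuotientGroup.mk_inv, ← QuotientGroup.mk_mul]
      congr 1
      exact Subtype.ext (by simp [ha j hj])
  obtain ⟨L, hL, e⟩ := hlist ⟨n, hn⟩
  have := list_prod_eq_oneJ t π ht hπ (fun L hL i hi j hj hij => ?_) L hL (fun i _ => ?_)
  · rw [← e, QuotientGroup.eq_one_iff] at this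
    exact this.1
  · rw [hprod L hL] at hij ⊢
    have hr := E.rep_list L
    set m := (L.map fun i => E.n (R.sim i) 1).prod with hm
    have e1 : π (QuotientGroup.mk (⟨m, mem_NJ_list hL⟩ : E.NJ J)) = (L.map R.s).prod := hφ _ _ hr
    rw [e1] at hij
    obtain ⟨c, hc, h2⟩ := hr.conj_n (R.sim i)
    have h3 := h2 1
    rw [hij] at h3
    rw [← QuotientGroup.mk_mul, ← QuotientGroup.mk_mul, eq_comm, QuotientGroup.eq]
    have e2 : ((((a j * ⟨m, mem_NJ_list hL⟩)⁻¹ * (⟨m, mem_NJ_list hL⟩ * a i) : E.NJ J)) : G) =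
        m⁻¹ * (E.n (R.sim j) (-1) * E.n (R.sim j) (c * 1)) * m⁻¹⁻¹ := by
      simp only [Subgroup.coe_mul, Subgroup.coe_inv, ha i hi, ha j hj]
      rw [← h3, E.n_neg]; group
    constructor
    · exact Subgroup.mem_subgroupOf.2 (e2 ▸ hZ _ ((E.NJ J).inv_mem (mem_NJ_list hL)) _
        (hnn j hj _ _ (by simp) (by simpa using hc)))
    · exact Subgroup.mem_subgroupOf.2 (e2 ▸ E.conj_mem_H (E.N.inv_mem hr.mem_N)
        (E.n_mul_n_mem_H _ (by simp) (by simpa using hc)))
  · rw [← e]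
    have e1 : π (QuotientGroup.mk (⟨n, hn⟩ : E.NJ J)) = 1 := hφ _ _ h1
    rw [e1]; exact R.pos_sim i

theorem H_conj_n (h3 : E.R3) {h : G} (hh : h ∈ E.H) (r : ι) :
    ∃ c : K, c ≠ 0 ∧ ∀ t, h * E.n r t * h⁻¹ = E.n r (c * t) := by
  simpa using (E.rep_of_mem_H hh).conj_n r

/-- commutators of `N_J` with `H` -/
theorem comm_mem (h3 : E.R3) {J : Set l} {Z : Subgroup G} (hZH : Z ≤ E.H)
    (hh : ∀ j ∈ J, ∀ c : K, c ≠ 0 → E.h (R.sim j) c ∈ Z) {n : G} (hn : n ∈ E.NJ J) :
    ∀ h ∈ E.H, n * h * n⁻¹ * h⁻¹ ∈ Z := by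
  have hnn : ∀ j ∈ J, ∀ c d : K, c ≠ 0 → d ≠ 0 → E.n (R.sim j) c * E.n (R.sim j) d ∈ Z := by
    intro j hj c d hc hd
    have := E.n_mul_n_neg (R.sim j) c (-d)
    rw [neg_neg] at this
    rw [this]
    exact Z.mul_mem (hh j hj c hc) (Z.inv_mem (hh j hj _ (by simpa using hd)))
  have step : ∀ j ∈ J, ∀ c : K, c ≠ 0 → ∀ y ∈ E.NJ J, (∀ h ∈ E.H, y * h * y⁻¹ * h⁻¹ ∈ Z) →
      ∀ h ∈ E.H, E.n (R.sim j) c * y * h * (E.n (R.sim j) c * y)⁻¹ * h⁻¹ ∈ Z := by
    intro j hj c hc y hy ih h hh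
    have h1 := E.conj_mem_H (E.NJ_le_N J hy) hh
    obtain ⟨d, hd, e⟩ := H_conj_n h3 h1 (R.sim j)
    have e1 : E.n (R.sim j) c * y * h * (E.n (R.sim j) c * y)⁻¹ * h⁻¹ =
        (E.n (R.sim j) c * (y * h * y⁻¹ * E.n (R.sim j) (-c) * (y * h * y⁻¹)⁻¹)) *
          (y * h * y⁻¹ * h⁻¹) := by rw [E.n_neg]; group
    rw [e1, e]
    exact Z.mul_mem (hnn j hj _ _ hc (by simp [hc, hd])) (ih h hh)
  induction hn using Subgroup.closure_induction_left with
  | one => simp
  | mul_left x hx y hy ih => obtain ⟨j, hj, rfl⟩ := hx; exact step j hj 1 one_ne_zero y hy ih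
  | inv_mul_cancel x hx y hy ih =>
    obtain ⟨j, hj, rfl⟩ := hx
    rw [← E.n_neg]; exact step j hj _ (by simp) y hy ih

/-- The regular representation on functions. -/
def lreg (k G : Type*) [Field k] [Group G] : Representation k G (G → k) where
  toFun g := LinearMap.funLeft k k fun x => g⁻¹ * x
  map_one' := by ext f x; simp
  map_mul' a b := by ext f x; simp [mul_assoc]

theorem lreg_apply {k : Type*} [Field k] (g : G) (f : G → k) (x : G) :
    lreg k G g f x = f (g⁻¹ * x) := rfl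

variable [Finite ι] [Fintype K] [DecidableEq K] [Fintype G] {k : Type*} [Field k]

theorem exists_pre (hF : E.Faith) (h3 : E.R3) (hq : (Fintype.card K : k) = 0)
    (hinj : Function.Injective (Elts.tor h3)) (ω : l → Option (Kˣ →* kˣ)) :
    ∃ y : G → k, y ≠ 0 ∧ Pre E (lreg k G) y (ch ω) (mu ω) := by
  classical
  set ρ := lreg k G
  obtain ⟨n0, hn0⟩ := E.exists_rep_of_mem_W R.w0_mem
  let θ : (l → Kˣ) →* kˣ := ∏ i, (ch ω i).comp (Pi.evalMonoidHom (fun _ => Kˣ) i)
  have θ_single : ∀ i c, θ (Pi.mulSingle i c) = ch ω i c := by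
    intro i c
    simp only [θ, MonoidHom.finset_prod_apply, MonoidHom.comp_apply, Pi.evalMonoidHom_apply]
    rw [Finset.prod_eq_single i, Pi.mulSingle_eq_same]
    · intro j _ hj; rw [Pi.mulSingle_eq_of_ne hj, map_one]
    · simp
  set J : Set l := {i | ω i = some 1} with hJ
  let Z : Subgroup G := θ.ker.map (Elts.tor h3)
  have htor : ∀ c, Elts.tor h3 c ∈ E.H := fun c => Elts.tor_range h3 ▸ ⟨c, rfl⟩
  have hZH : Z ≤ E.H := by rintro _ ⟨c, -, rfl⟩; exact htor c
  have hZh : ∀ j ∈ J, ∀ c : K, c ≠ 0 → E.h (R.sim j) c ∈ Z := fun j hj c hc =>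
    ⟨Pi.mulSingle j (Units.mk0 c hc), by
      rw [SetLike.mem_coe, MonoidHom.mem_ker, θ_single]
      have : ω j = some 1 := hj
      simp [ch, this], Elts.tor_single h3 j _⟩
  have hcomm := fun n (hn : n ∈ E.NJ J) => comm_mem h3 hZH hZh hn
  have hZn : ∀ n ∈ E.NJ J, ∀ z ∈ Z, n * z * n⁻¹ ∈ Z := fun n hn z hz => by
    simpa using Z.mul_mem (hcomm n hn z (hZH hz)) hz
  -- the basic vector
  let u0 : G → k := fun x => if x ∈ E.U then 1 else 0
  have hu0 : Fix E ρ u0 := fun u hu => funext fun x => by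
    simp only [ρ, lreg_apply, u0, E.U.mul_mem_cancel_left (E.U.inv_mem hu)]
  let b0 : G → k := ∑ c : l → Kˣ, ((θ c)⁻¹ : kˣ) • ρ (n0⁻¹ * Elts.tor h3 c * n0) u0
  have hb0 : Fix E ρ b0 :=
    Fix.sum ρ _ fun c _ => (hu0.H ρ (E.inv_conj_mem_H hn0.mem_N (htor c))).smul ρ _
  have hb0θ : ∀ c, ρ (n0⁻¹ * Elts.tor h3 c * n0) b0 = (θ c : k) • b0 := by
    intro c
    simp only [b0, map_sum, Finset.smul_sum]
    refine Fintype.sum_equiv (Equiv.mulLeft c) _ _ fun d => ?_
    rw [Units.smul_def, Units.smul_def, map_smul, ← rmul, smul_smul, Equiv.coe_mulLeft, map_mul θ,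
      map_mul (Elts.tor h3)]
    congr 1
    · simp [mul_comm]
    · congr 2; group
  have hb0Z : ∀ z ∈ Z, ρ (n0⁻¹ * z * n0) b0 = b0 := by
    rintro _ ⟨c, hc, rfl⟩
    rw [hb0θ, (MonoidHom.mem_ker).1 hc]; simp
  have hb0B : ∀ x, b0 x ≠ 0 → x ∈ E.B := by
    intro x hx
    simp only [b0, Finset.sum_apply] at hx
    obtain ⟨c, -, hc⟩ := Finset.exists_ne_zero_of_sum_ne_zero hx
    have h1 : (n0⁻¹ * Elts.tor h3 c * n0)⁻¹ * x ∈ E.U := by
      by_contra h
      apply hc
      simp only [Pi.smul_apply, ρ, lreg_apply, u0, if_neg h, smul_zero]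
    have := E.B.mul_mem (E.H_le_B (E.inv_conj_mem_H hn0.mem_N (htor c))) (E.U_le_B h1)
    rwa [mul_inv_cancel_left] at this
  have hb01 : b0 1 = 1 := by
    simp only [b0, Finset.sum_apply]
    rw [Finset.sum_eq_single 1]
    · simp [ρ, lreg_apply, u0]
    · intro c _ hc
      have h : (n0⁻¹ * Elts.tor h3 c * n0)⁻¹ * 1 ∉ E.U := fun h => hc (hinj (by
        have := hF.U_inf_H (E.U.inv_mem h) (by
          simpa using E.inv_conj_mem_H hn0.mem_N (htor c))
        rw [map_one]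
        calc Elts.tor h3 c = n0 * ((n0⁻¹ * Elts.tor h3 c * n0)⁻¹ * 1)⁻¹ * n0⁻¹ := by group
          _ = 1 := by rw [this]; group))
      simp only [Pi.smul_apply, ρ, lreg_apply, u0, if_neg h, smul_zero]
    · simp
  -- the summands
  have hex : ∀ w : R.WJ J, ∃ n ∈ E.NJ J, E.Rep n w := fun w => E.exists_rep_NJ w.2
  choose nw hnw hnw' using hex
  let z : R.WJ J → G → k := fun w => T E ρ (nw w * n0) (w * R.w0) b0
  have hz : ∀ (w : R.WJ J), ∀ n ∈ E.NJ J, E.Rep n w → T E ρ (n * n0) (w * R.w0) b0 = z w := by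
    intro w n hn hr
    have h1 : (nw w)⁻¹ * n ∈ Z := mem_of_rep_one hF hZn hZh
      ((E.NJ J).mul_mem ((E.NJ J).inv_mem (hnw w)) hn) (by simpa using (hnw' w).inv.mul hr)
    rw [show n * n0 = nw w * n0 * (n0⁻¹ * ((nw w)⁻¹ * n) * n0) by group, T_mul,
      Module.End.mul_apply, hb0Z _ h1]
  have hzfix : ∀ w, Fix E ρ (z w) := fun w => hb0.T ρ hF ((hnw' w).mul hn0)
  have hzθ : ∀ w c, ρ (Elts.tor h3 c) (z w) = (θ c : k) • z w := by
    intro w c
    have h1 := hcomm _ ((E.NJ J).inv_mem (hnw w)) _ (htor c)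
    simp only [z]
    rw [H_T_apply ρ (htor c), show (nw w * n0)⁻¹ * Elts.tor h3 c * (nw w * n0) =
      (n0⁻¹ * ((nw w)⁻¹ * Elts.tor h3 c * (nw w)⁻¹⁻¹ * (Elts.tor h3 c)⁻¹) * n0) *
        (n0⁻¹ * Elts.tor h3 c * n0) by group, rmul, hb0θ, map_smul, hb0Z _ h1, map_smul]
  have hzh : ∀ w i (c : Kˣ), ρ (E.h (R.sim i) c) (z w) = (ch ω i c : k) • z w := by
    intro w i c
    rw [← Elts.tor_single h3, hzθ, θ_single]
  have hw0 : R.w0⁻¹ = R.w0 := inv_eq_of_mul_eq_one_right R.w0_mul_self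
  have hdown : ∀ (w : R.WJ J) i, R.Pos ((w : Equiv.Perm ι)⁻¹ (R.sim i)) →
      Ts E ρ i (z w) = (if ch ω i = 1 then -1 else 0 : k) • z w := by
    intro w i hp
    have h4 : E.Rep ((ns E i)⁻¹ * (nw w * n0)) (R.s i * (w * R.w0)) := by
      have := (rep_ns (E := E) i).inv.mul ((hnw' w).mul hn0)
      rwa [R.s_inv] at this
    have h5 : z w = Ts E ρ i (T E ρ ((ns E i)⁻¹ * (nw w * n0)) (R.s i * (w * R.w0)) b0) := by
      simp only [z]
      rw [T_step' ρ hF ((hnw' w).mul hn0) (i := i)]; rfl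
      rw [mul_inv_rev, hw0, Equiv.Perm.mul_apply, R.pos_w0_iff, not_not]; exact hp
    conv_lhs => rw [h5, Ts_Ts ρ hF h3 hq i (hb0.T ρ hF h4), ← h5]
    simp only [hzh]
    rw [← Finset.sum_smul, sum_char hq]
  haveI := Fintype.ofFinite (R.WJ J)
  refine ⟨∑ w, z w, fun h0 => ?_, Fix.sum ρ _ fun w _ => hzfix w, fun i c => ?_, fun i => ?_⟩
  · have h1 := congrFun h0 n0
    rw [Finset.sum_apply, Finset.sum_eq_single 1, ← hz 1 1 (E.NJ J).one_mem E.rep_one] at h1
    · simp only [one_mul, OneMemClass.coe_one, T, Module.End.mul_apply, Sg_apply,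
        Finset.sum_apply] at h1
      rw [Finset.sum_eq_single 1] at h1
      · simp [ρ, lreg_apply, hb01] at h1
      · intro a _ ha
        split_ifs with h
        · by_contra h2
          have h4 := hb0B _ h2
          have h5 : n0⁻¹ * a⁻¹ * n0 ∈ E.V := hn0.inv_conj_mem_XS (T := {r | ¬ R.Pos r})
            (fun r hr => hr.2) (Subgroup.inv_mem _ h)
          have := hF.B_inf_V _ (by simpa [mul_assoc] using h4) h5
          exact ha (by
            calc a = n0 * (n0⁻¹ * a⁻¹ * n0)⁻¹ * n0⁻¹ := by group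
              _ = 1 := by rw [this]; group)
        · rfl
      · simp
    · intro w _ hw
      by_contra h2
      simp only [z, T, Module.End.mul_apply, Sg_apply, Finset.sum_apply] at h2
      obtain ⟨a, -, ha⟩ := Finset.exists_ne_zero_of_sum_ne_zero h2
      split_ifs at ha with h
      · have h4 := hb0B _ ha
        have h5 := hF.bruhat_unique_w ((hnw' w).mul hn0) hn0
          (E.U_le_B (E.XS_mono (fun _ h => h.1) h)) h4 (by group)
        exact hw (Subtype.ext (by simpa using h5))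
      · exact ha rfl
    · simp
  · rw [map_sum, Finset.smul_sum]
    exact Finset.sum_congr rfl fun w _ => hzh w i c
  · rw [map_sum]
    by_cases hi : i ∈ J
    · have e : ω i = some 1 := hi
      have e1 : mu ω i = 0 := by simp [mu, e]
      have e2 : ch ω i = 1 := by simp [ch, e]
      rw [e1, zero_smul]
      let s : R.WJ J := ⟨R.s i, R.s_mem_WJ hi⟩
      have hup : ∀ w : R.WJ J, ¬ R.Pos ((w : Equiv.Perm ι)⁻¹ (R.sim i)) →
          Ts E ρ i (z w) + Ts E ρ i (z (s * w)) = 0 := by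
        intro w hp
        have h1 : Ts E ρ i (z w) = z (s * w) := by
          rw [← hz (s * w) (ns E i * nw w) ((E.NJ J).mul_mem
            (Subgroup.subset_closure ⟨i, hi, rfl⟩) (hnw w)) ((rep_ns i).mul (hnw' w))]
          simp only [z, s, Subgroup.coe_mul, mul_assoc]
          rw [T_step ρ hF ((hnw' w).mul hn0)]; rfl
          rw [mul_inv_rev, hw0, Equiv.Perm.mul_apply, R.pos_w0_iff]; exact hp
        rw [h1, hdown (s * w) i, if_pos e2]
        · simp
        · simp only [s, Subgroup.coe_mul, mul_inv_rev, R.s_inv]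
          exact R.pos_mul_s_of_not_pos (R.W.inv_mem (R.WJ_le_W J w.2)) hp
      have hss : ∀ w : R.WJ J, s * (s * w) = w := fun w => Subtype.ext (by
        simp only [s, Subgroup.coe_mul]; rw [← mul_assoc, R.s_mul_self, one_mul])
      refine Finset.sum_involution (fun w _ => s * w) (fun w _ => ?_) (fun w _ _ h => ?_)
        (fun _ _ => Finset.mem_univ _) fun w _ => hss w
      · by_cases hp : R.Pos ((w : Equiv.Perm ι)⁻¹ (R.sim i))
        · have := hup (s * w) (by
            simp only [s, Subgroup.coe_mul, mul_inv_rev, R.s_inv, Equiv.Perm.mul_apply, R.s_sim]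
            rw [R.W_neg (R.W.inv_mem (R.WJ_le_W J w.2)), R.not_pos_neg_iff]; exact hp)
          rwa [hss, add_comm] at this
        · exact hup w hp
      · exact R.s_ne_one i (congrArg Subtype.val (mul_eq_right.1 h))
    · rw [Finset.smul_sum]
      refine Finset.sum_congr rfl fun w _ => ?_
      rw [hdown w i (R.pos_WJ_of_not_inSub ((R.WJ J).inv_mem w.2) (R.pos_sim i)
        fun h => hi (R.inSub_sim.1 h))]
      congr 1
      have : ω i ≠ some 1 := hi
      unfold ch mu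
      cases h : ω i <;> simp_all

theorem card_hom (p : ℕ) [hp : Fact p.Prime] [CharP K p] [CharP k p] [IsAlgClosed k] :
    Nat.card (Kˣ →* kˣ) = Fintype.card K - 1 := by
  haveI : NeZero ((Monoid.exponent Kˣ : ℕ) : k) := ⟨by
    rw [Ne, CharP.cast_eq_zero_iff k p]
    intro h
    have := h.trans Group.exponent_dvd_nat_card
    rw [Nat.card_units] at this
    exact SBN.not_dvd_card_sub_one p this⟩
  rw [CommGroup.card_monoidHom_of_hasEnoughRootsOfUnity, Nat.card_units, Nat.card_eq_fintype_card]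

/-- **Steinberg**: the number of semisimple classes of a simply connected group is `q^l`. -/
theorem card_regular_classes (hF : E.Faith) (h3 : E.R3) (htop : E.Gp = ⊤)
    (hinj : Function.Injective (Elts.tor h3)) (p : ℕ) [hp : Fact p.Prime] [CharP K p] :
    Nat.card {c : ConjClasses G // ∃ g : G, ConjClasses.mk g = c ∧ (orderOf g).Coprime p} =
      Fintype.card K ^ Fintype.card l := by
  let k := AlgebraicClosure (ZMod p)
  obtain ⟨W⟩ := exists_wedd k G
  have hq : (Fintype.card K : k) = 0 := card_eq_zero p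
  have h1 : ∀ ω : l → Option (Kˣ →* kˣ), ∃ j, ∃ v : Fin (W.d j) → k, v ≠ 0 ∧
      Pre E (W.rep j) v (ch ω) (mu ω) := by
    intro ω
    obtain ⟨y, hy, h⟩ := exists_pre hF h3 hq hinj ω
    obtain ⟨j, v, hv, h'⟩ := W.exists_vec _ hy
    exact ⟨j, v, hv, h.transfer hF (by rwa [W.asAlgebraHom_rep])⟩
  choose f v hv hf using h1
  have hbij : Function.Bijective f := by
    constructor
    · intro ω ω' h
      have key : ∀ j j' (e : j = j') (v : Fin (W.d j) → k) (v' : Fin (W.d j') → k), v ≠ 0 → v' ≠ 0 →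
          Pre E (W.rep j) v (ch ω) (mu ω) → Pre E (W.rep j') v' (ch ω') (mu ω') → ω = ω' := by
        rintro j _ rfl v v' h0 h0' a b
        exact W.wt_unique p hF h3 htop h0 h0' a b
      exact key _ _ h _ _ (hv ω) (hv ω') (hf ω) (hf ω')
    · intro j
      obtain ⟨y, hy, ω, h⟩ := exists_wt (W.rep j) p hF h3
      exact ⟨ω, W.eq_of_wt p hF h3 htop (hv ω) hy (hf ω) h⟩
  rw [W.card_regular p, ← Nat.card_fin W.n, ← Nat.card_congr (Equiv.ofBijective f hbij),
    Nat.card_fun, Nat.card_eq_fintype_card (α := l)]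
  have hc := card_hom (K := K) (k := k) p
  haveI : Finite (Kˣ →* kˣ) := Nat.finite_of_card_ne_zero (by
    rw [hc]; have := Fintype.one_lt_card (α := K); omega)
  rw [Finite.card_option, hc, Nat.sub_add_cancel Fintype.card_pos]

end H64.MR
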